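import Cfsg.Agent.Lib.KnownB.TypeM22Unique.Codes

/-!
The frame of a path of six members.
-/

set_option autoImplicit false

namespace CfsgLib.KnownB.TypeM22.Unique

open Cfsg CfsgLib.Classical.Unitary CfsgLib.ThreeTransp CfsgLib.ThreeTransp.USix CfsgLib.Involutions
open CfsgLib.Spor (QField)

universe u

/-- The codes of the standard path. -/
def std : List ℕ := [1, 1344, 4, 256, 20, 1024]

/-- The neighbours on a path of six. -/
def adj6 (i j : Fin 6) : Bool := Nat.beq (i.val + 1) j.val || Nat.beq (j.val + 1) i.val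

variable {F : Type} [Field F] {σ : F →+* F} {hF : Nat.card F = 2 ^ 2} {h : UFrob σ 2}
  {G : Type u} [Group G] {D : Set G} {d : G} {f : Subgroup.closure (nb D d) →* PSU 6 F 2}

/-- A frame in which a path of six members is the standard path. -/
theorem path_frame (P : PMap hF h D d f) (hW : WeakTS D) (e : QField ≃+* F) {q : Fin 6 → G}
    (hq : ∀ i, q i ∈ nb D d) (hc : ∀ i j, i ≠ j → (Commute (q i) (q j) ↔ adj6 i j = false)) :
    ∃ r s, Hyp σ r s ∧ ∀ i : Fin 6, IsPt hF h f (q i) (vq e r s (qvec (std.getD i.val 0))) := by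
  choose u hu0 hu using fun i => exists_vec P (hq i)
  have hne : ∀ {i j v w}, IsPt hF h f (q i) v → IsPt hF h f (q j) w → i ≠ j → adj6 i j = true → uh σ v w ≠ 0 :=
    fun {i j v w} pi pj hij ha e0 => by
      have := (hc i j hij).1 ((pi.comm P hW pj).2 e0)
      rw [ha] at this
      exact Bool.noConfusion this
  have hz : ∀ {i j v w}, IsPt hF h f (q i) v → IsPt hF h f (q j) w → i ≠ j → adj6 i j = false → uh σ v w = 0 :=
    fun {i j v w} pi pj hij ha => (pi.comm P hW pj).1 ((hc i j hij).2 ha)
  have step : ∀ {i j v}, IsPt hF h f (q i) v → i ≠ j → adj6 i j = true →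
      ∃ w, IsPt hF h f (q j) w ∧ uh σ v w = 1 := by
    intro i j v pi hij ha
    have h0 := hne pi (hu j) hij ha
    refine ⟨uh σ v (u j) • u j, (hu j).smul h0, ?_⟩
    rw [uh_smul_right, mul_comm]
    exact norm_one hF h h0
  obtain ⟨g, hg⟩ : ∃ g, IsPt hF h f (q 0) g := ⟨_, hu 0⟩
  obtain ⟨f₁, hf, e01⟩ := step (j := 1) hg (by decide) (by decide)
  obtain ⟨e₂, he, e12⟩ := step (j := 2) hf (by decide) (by decide)
  obtain ⟨d₃, hd, e23⟩ := step (j := 3) he (by decide) (by decide)
  obtain ⟨h₄, hh, e34⟩ := step (j := 4) hd (by decide) (by decide)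
  obtain ⟨i₅, hi, e45⟩ := step (j := 5) hh (by decide) (by decide)
  have e02 := hz hg he (by decide) (by decide)
  have e03 := hz hg hd (by decide) (by decide)
  have e04 := hz hg hh (by decide) (by decide)
  have e05 := hz hg hi (by decide) (by decide)
  have e13 := hz hf hd (by decide) (by decide)
  have e14 := hz hf hh (by decide) (by decide)
  have e15 := hz hf hi (by decide) (by decide)
  have e24 := hz he hh (by decide) (by decide)
  have e25 := hz he hi (by decide) (by decide)
  have e35 := hz hd hi (by decide) (by decide)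
  have hsw : ∀ {v w : V F}, uh σ v w = 1 → uh σ w v = 1 := fun {v w} e0 => by rw [← h.symm, e0, map_one]
  have s10 := hsw e01
  have s21 := hsw e12
  have s32 := hsw e23
  have s43 := hsw e34
  have s54 := hsw e45
  refine ⟨![g, e₂, h₄ + e₂], ![f₁ + d₃ + i₅, d₃, i₅], ⟨?_, ?_, ?_⟩, ?_⟩
  · intro i j
    fin_cases i <;> fin_cases j <;>
      simp [uh_add_left, uh_add_right, hg.iso, he.iso, hh.iso, e02, e04, e24, h.swap_zero e02, h.swap_zero e04,
        h.swap_zero e24]
  · intro i j
    fin_cases i <;> fin_cases j <;>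
      simp [uh_add_left, uh_add_right, hf.iso, hd.iso, hi.iso, e13, e15, e35, h.swap_zero e13, h.swap_zero e15,
        h.swap_zero e35]
  · intro i j
    fin_cases i <;> fin_cases j <;>
      simp [uh_add_left, uh_add_right, e01, e03, e05, s21, e23, e25, s43, e45, h.swap_zero e14, add_self hF]
  · intro i
    have q1 : qvec 1 = ![1, 0, 0, 0, 0, 0] := by decide
    have q2 : qvec 1344 = ![0, 0, 0, 1, 1, 1] := by decide
    have q3 : qvec 4 = ![0, 1, 0, 0, 0, 0] := by decide
    have q4 : qvec 256 = ![0, 0, 0, 0, 1, 0] := by decide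
    have q5 : qvec 20 = ![0, 1, 1, 0, 0, 0] := by decide
    have q6 : qvec 1024 = ![0, 0, 0, 0, 0, 1] := by decide
    have htwo : ∀ v : V F, v + v = 0 := fun v => funext fun k => add_self hF (v k)
    fin_cases i <;> simp [std, q1, q2, q3, q4, q5, q6, vq, lin]
    · exact hg
    · refine hf.congr ?_
      have e' : f₁ + d₃ + i₅ + d₃ + i₅ = f₁ + (d₃ + d₃) + (i₅ + i₅) := by abel
      rw [e', htwo, htwo, add_zero, add_zero]
    · exact he
    · exact hd
    · refine hh.congr ?_
      have e' : e₂ + (h₄ + e₂) = h₄ + (e₂ + e₂) := by abel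
      rw [e', htwo, add_zero]
    · exact hi

end CfsgLib.KnownB.TypeM22.Unique
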