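import Cfsg.Agent.Lib.KnownB.TypeM22.Coords

/-!
Images of points along the words used for the relations.
-/

set_option autoImplicit false
set_option maxRecDepth 100000

namespace CfsgLib.KnownB.TypeM22.Unique

def trBeta : List ℕ := [1025, 1045, 1301, 1297, 1300, 1044]

def trTee : List ℕ := [64, 69, 325, 321, 1025, 1045, 1301, 1297, 1300, 1044]

def trFourth : List ℕ := [21, 277, 257, 261]

def trHigh : List ℕ := [16, 1360, 1361, 1365, 21, 277, 257, 261]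

def trRoot : List ℕ := [17, 1041, 1029, 1285, 1280, 1284, 1028, 324, 320, 340, 84, 81, 1105, 1093, 1349, 1345]

def trTeeI : List ℕ := [1280, 1284, 1028, 1040]

def trSixA : List (List ℕ) := [[2, 2, 2, 2, 2, 2690, 2705, 3729, 3717, 3973, 3977, 3465, 3489, 1441, 1408, 1408, 1412, 196, 215, 1239, 1219, 1219, 2819, 2831, 2063, 2087, 2343, 2339, 3171, 3184, 112, 81, 81, 81, 81, 81, 1105, 1093, 1349, 1345],
  [8, 520, 544, 2592, 2561, 3905, 3922, 2898, 2886, 2630, 2638, 2382, 2418, 1394, 1344, 1344, 1348, 4, 4, 4, 4, 4, 1348, 1344, 1344, 1344, 1344, 1348, 4, 4, 4, 4, 1348, 1344, 1344, 1344, 1344, 1344, 1344, 1348],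
  [32, 32, 32, 2080, 2049, 3393, 3410, 2386, 2414, 2670, 2662, 2918, 2930, 1906, 1856, 1856, 1868, 2188, 2207, 3231, 3235, 3235, 2531, 2535, 2279, 2255, 3023, 3011, 1027, 1040, 16, 16, 1360, 1364, 1108, 1088, 1088, 1108, 1364, 1360],
  [128, 128, 128, 128, 178, 1522, 1522, 2546, 2510, 2766, 2758, 3014, 3026, 4050, 4083, 4083, 4095, 63, 63, 3135, 3075, 3121, 1713, 1721, 1209, 1197, 1965, 1953, 2145, 2145, 97, 64, 64, 64, 64, 64, 64, 64, 64, 64],
  [512, 512, 552, 2600, 2569, 1481, 1481, 1481, 1481, 1993, 1989, 1733, 1785, 2809, 2763, 3979, 3975, 1287, 1300, 276, 256, 256, 256, 260, 4, 4, 260, 256, 256, 256, 256, 256, 256, 260, 4, 4, 4, 4, 260, 256],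
  [2048, 2048, 2088, 40, 40, 40, 40, 2088, 2048, 2048, 2048, 2048, 2088, 40, 40, 40, 40, 40, 40, 2088, 2048, 2081, 2017, 2029, 1261, 1273, 1785, 1777, 3185, 3170, 1122, 1104, 272, 276, 20, 20, 1044, 1024, 1024, 1024]]

def trSixB : List (List ℕ) := [[3, 3, 3, 3, 3, 4035, 4049, 3025, 3013, 2757, 2765, 2509, 2545, 1521, 1472, 1472, 1476, 132, 150, 1174, 1154, 1154, 3586, 3594, 3082, 3126, 3382, 3378, 2162, 2144, 96, 81, 81, 81, 81, 81, 1105, 1093, 1349, 1345],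
  [12, 780, 816, 3888, 3841, 2625, 2643, 3667, 3655, 3911, 3915, 3403, 3427, 1379, 1344, 1344, 1348, 4, 4, 4, 4, 4, 1348, 1344, 1344, 1344, 1344, 1348, 4, 4, 4, 4, 1348, 1344, 1344, 1344, 1344, 1344, 1344, 1348],
  [48, 48, 48, 3120, 3073, 2369, 2387, 3411, 3451, 3963, 3959, 3703, 3683, 1635, 1600, 1600, 1608, 3272, 3290, 2266, 2290, 2290, 3506, 3510, 3254, 3210, 3722, 3714, 1026, 1040, 16, 16, 1360, 1364, 1108, 1088, 1088, 1108, 1364, 1360],
  [192, 192, 192, 192, 227, 1443, 1443, 3491, 3467, 3979, 3975, 3719, 3731, 2707, 2722, 2722, 2730, 42, 42, 2090, 2050, 2081, 2017, 2029, 1261, 1273, 1785, 1777, 3185, 3185, 113, 64, 64, 64, 64, 64, 64, 64, 64, 64],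
  [768, 768, 828, 3900, 3853, 1421, 1421, 1421, 1421, 1677, 1669, 1925, 1965, 4013, 3982, 2766, 2758, 1286, 1300, 276, 256, 256, 256, 260, 4, 4, 260, 256, 256, 256, 256, 256, 256, 260, 4, 4, 4, 4, 260, 256],
  [3072, 3072, 3132, 60, 60, 60, 60, 3132, 3072, 3072, 3072, 3072, 3132, 60, 60, 60, 60, 60, 60, 3132, 3072, 3121, 1713, 1721, 1209, 1197, 1965, 1953, 2145, 2163, 1139, 1104, 272, 276, 20, 20, 1044, 1024, 1024, 1024]]

def trProd : List (List ℕ) := [[1, 1, 1, 1, 1, 1, 1],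
  [4, 4, 4, 4, 4, 4, 4],
  [16, 16, 16, 16, 16, 16, 16],
  [64, 69, 69, 69, 80, 81, 81],
  [256, 261, 273, 277, 256, 256, 256],
  [1024, 1024, 1044, 1044, 1025, 1025, 1041]]

end CfsgLib.KnownB.TypeM22.Unique
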