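import Cfsg.Agent.Lib.KnownB.TypeM22Unique.Pattern
import Cfsg.Agent.Lib.KnownB.TypeM22Unique.PathFrame
import Cfsg.Agent.Lib.KnownB.TypeM22Unique.Traj

/-!
Nine members in the pattern of the diagram, with one translation of order three, satisfy the spider
relation and the relation of the long element.
-/

set_option autoImplicit false

namespace CfsgLib.KnownB.TypeM22.Unique

open Cfsg CfsgLib.Classical.Unitary CfsgLib.ThreeTransp CfsgLib.ThreeTransp.USix CfsgLib.Involutions
open CfsgLib.Spor (QField)
open CfsgLib.KnownB.Fi22Mult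

universe u

variable {F : Type} [Field F] {σ : F →+* F} {hF : Nat.card F = 2 ^ 2} {h : UFrob σ 2}
  {G : Type u} [Group G] [Finite G] {D : Set G} {y : ℕ → G}

omit [Finite G] in
theorem val_replicate (y : ℕ → G) (w : List ℕ) : ∀ n, val y (List.replicate n w).flatten = val y w ^ n
  | 0 => by simp [val_nil]
  | n + 1 => by rw [List.replicate_succ, List.flatten_cons, val_append, val_replicate y w n, pow_succ']

omit [Finite G] in
/-- The six along a path inside the partners of a member. -/
theorem Pattern.frame (Y : Pattern D y) (hW : WeakTS D) {o : ℕ} (ho : o < 9) {p : List ℕ}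
    {f : Subgroup.closure (nb D (y o)) →* PSU 6 F 2} (P : PMap hF h D (y o) f) (e : QField ≃+* F)
    (hp : ((List.range 6).all fun i => Nat.blt (p.getD i 0) 9 && !Nat.beq o (p.getD i 0) &&
      !edgeB o (p.getD i 0) && (List.range 6).all fun j => Nat.beq i j ||
        (edgeB (p.getD i 0) (p.getD j 0) == (Nat.beq (i + 1) j || Nat.beq (j + 1) i))) = true) :
    ∃ r s, Hyp σ r s ∧ ∀ i, i < 6 → IsPt hF h f (y (p.getD i 0)) (vq e r s (qvec (std.getD i 0))) := by
  have hall := fun i (hi : i < 6) => List.all_eq_true.1 hp i (List.mem_range.2 hi)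
  simp only [Bool.and_eq_true, Nat.blt_eq, Bool.not_eq_true', List.all_eq_true, List.mem_range,
    Bool.or_eq_true, Nat.beq_eq, beq_iff_eq] at hall
  obtain ⟨r, s, H, hpt⟩ := path_frame P hW e (q := fun i : Fin 6 => y (p.getD i.val 0))
    (fun i => by
      obtain ⟨⟨⟨h1, h2⟩, h3⟩, -⟩ := hall i.val i.2
      exact Y.mem_nb ho h1 (fun e0 => by rw [e0, Nat.beq_refl] at h2; exact Bool.noConfusion h2) h3)
    fun i j hij => by
      obtain ⟨⟨⟨h1, -⟩, -⟩, h4⟩ := hall i.val i.2
      have hj := (hall j.val j.2).1.1.1
      have h5 : edgeB (p.getD i.val 0) (p.getD j.val 0) = adj6 i j :=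
        (h4 j.val j.2).resolve_left fun e0 => hij (Fin.ext e0)
      rw [← h5]
      cases he : edgeB (p.getD i.val 0) (p.getD j.val 0)
      · exact iff_of_true (Y.comm _ _ h1 hj he) rfl
      · exact iff_of_false (Y.ncomm _ _ h1 hj he) (by simp)
  exact ⟨r, s, H, fun i hi => hpt ⟨i, hi⟩⟩

/-- The product of the translations of the cycle of six is trivial, and so the spider relation holds. -/
theorem Pattern.spider_one (Y : Pattern D y) (S : Setting D) (hP : Maps hF h D)
    (hT : ¬ Commute (y 1) (val y tee)) : val y spiderW = 1 ∧ val y (expand wordSix) = 1 := by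
  have hW := S.weak
  have hsp : val y spiderW = val y (expand wordSix) := by
    rw [Y.eqv hW spider (by decide +kernel), val_append, val_append,
      (Y.cube_one hW hT (w := wOne) (by decide +kernel)).1, (Y.cube_one hW hT (w := wTwo) (by decide +kernel)).2,
      mul_one, mul_one]
  suffices h1 : val y (expand wordSix) = 1 from ⟨hsp.trans h1, h1⟩
  have : Finite F := Nat.finite_of_card_ne_zero (by rw [hF]; norm_num)
  obtain ⟨f, P⟩ := hP (y 8) (Y.mem 8 (by norm_num))
  obtain ⟨e⟩ := exists_coord hF
  obtain ⟨r, s, H, hpt⟩ := Y.frame hW (o := 8) (by norm_num) (p := [0, 1, 2, 3, 4, 5]) P e (by decide +kernel)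
  -- the root outside the chain
  have hBD : val y beta ∈ D := Y.root hW (by decide +kernel) (by norm_num)
  have hpairB : ¬ Commute (y 1) (val y beta) :=
    Y.pair hW (w := pairB.1) (by decide +kernel) (by decide) (by decide) (by decide)
      ((Y.eqv hW pair_b_fst (by decide +kernel)).trans (by simp [val_cons, val_nil]))
      (Y.eqv hW pair_b_snd (by decide +kernel))
  have hpairF : ¬ Commute (y 5) (val y beta) :=
    Y.pair hW (w := pairF.1) (by decide +kernel) (by decide) (by decide) (by decide)
      ((Y.eqv hW pair_f_fst (by decide +kernel)).trans (by simp [val_cons, val_nil]))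
      (Y.eqv hW pair_f_snd (by decide +kernel))
  have hcm : ∀ {i : ℕ} {ms : List (ℕ × ℕ)} {n : ℕ},
      reducesTo ms ((beta ++ [i]) ++ ([i] ++ beta).reverse) n = true → small ([i] ++ beta) = true →
        Commute (val y beta) (y i) := fun {i ms n} hr hs => by
    have := Y.eqv hW hr hs
    rw [val_append, val_append, val_cons, val_nil, mul_one] at this
    exact this
  have hB8 := hcm beta_eight (by decide +kernel)
  have hBnb : val y beta ∈ nb D (y 8) :=
    ⟨hBD, fun e0 => hpairB (e0 ▸ Y.comm 1 8 (by norm_num) (by norm_num) (by decide)), hB8.symm⟩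
  obtain ⟨c, hc, hBc⟩ := locate P hW H hBnb
    (req := [(1, true), (4, true), (256, true), (20, true), (1344, false), (1024, false)])
    (L := [16, 19, 18]) (by decide +kernel) (by
    intro x hx
    simp only [List.mem_cons, List.not_mem_nil, or_false] at hx
    rcases hx with rfl | rfl | rfl | rfl | rfl | rfl
    · exact ⟨_, hpt 0 (by norm_num), iff_of_true (hcm beta_zero (by decide +kernel)) rfl⟩
    · exact ⟨_, hpt 2 (by norm_num), iff_of_true (hcm beta_two (by decide +kernel)) rfl⟩
    · exact ⟨_, hpt 3 (by norm_num), iff_of_true (hcm beta_three (by decide +kernel)) rfl⟩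
    · exact ⟨_, hpt 4 (by norm_num), iff_of_true (hcm beta_four (by decide +kernel)) rfl⟩
    · exact ⟨_, hpt 1 (by norm_num), iff_of_false (fun e0 => hpairB e0.symm) (by simp)⟩
    · exact ⟨_, hpt 5 (by norm_num), iff_of_false (fun e0 => hpairF e0.symm) (by simp)⟩)
  obtain ⟨z, hz⟩ : ∃ z : ℕ → G, z = fun i => if i = 9 then val y beta else y i := ⟨_, rfl⟩
  obtain ⟨cd, hcd⟩ : ∃ cd : ℕ → ℕ, cd = fun i => [1, 1344, 4, 256, 20, 1024, 0, 0, 0, c].getD i 0 := ⟨_, rfl⟩
  have hzp : ∀ i ∈ ([0, 1, 2, 3, 4, 5, 9] : List ℕ), IsPt hF h f (z i) (vq e r s (qvec (cd i))) := by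
    intro i hi
    subst hz hcd
    simp only [List.mem_cons, List.not_mem_nil, or_false] at hi
    rcases hi with rfl | rfl | rfl | rfl | rfl | rfl | rfl
    · simpa [std] using hpt 0 (by norm_num)
    · simpa [std] using hpt 1 (by norm_num)
    · simpa [std] using hpt 2 (by norm_num)
    · simpa [std] using hpt 3 (by norm_num)
    · simpa [std] using hpt 4 (by norm_num)
    · simpa [std] using hpt 5 (by norm_num)
    · simpa using hBc
  -- the excluded position
  have hne16 : c ≠ 16 := by
    rintro rfl
    have h1 := isPt_word hW H (w := [2, 3, 4, 5]) (os := trTeeI) (c := 16) (cd := cd) (y := z)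
      (by subst hcd; decide +kernel)
      (fun i hi => hzp i (by simp only [List.mem_cons, List.not_mem_nil, or_false] at hi ⊢; omega)) hBc
    have h2 : val z [2, 3, 4, 5] * val y beta * (val z [2, 3, 4, 5])⁻¹ = val y tee := by
      subst hz
      rw [show tee = conjW wTee [8] from rfl, show beta = conjW wBeta [8] from rfl,
        Y.val_conjW hW (w := wTee) (by decide +kernel), Y.val_conjW hW (w := wBeta) (by decide +kernel),
        show wTee = [2, 3, 4, 5] ++ wBeta from rfl, val_append]
      simp [val_cons, val_nil]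
      group
    rw [h2] at h1
    exact hT ((commute_code P hW H (hpt 1 (by norm_num)) h1).2 (by decide +kernel))
  have hw9 : ∀ i ∈ wordSix, i ∈ ([0, 1, 2, 3, 4, 5, 9] : List ℕ) := by decide +kernel
  obtain ⟨k, hk, hfk⟩ : ∃ k : Subgroup.closure (nb D (y 8)), (k : G) = val z wordSix ∧ f k = 1 := by
    simp only [List.mem_cons, List.not_mem_nil, or_false] at hc
    rcases hc with rfl | rfl | rfl
    · exact absurd rfl hne16
    · exact word_one H (fun i hi => hzp i (hw9 i hi)) (m := 2) (T := trSixA) (by subst hcd; decide +kernel)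
    · exact word_one H (fun i hi => hzp i (hw9 i hi)) (m := 3) (T := trSixB) (by subst hcd; decide +kernel)
  rw [← val_expand (y := y) (z := z) (by subst hz; simp) (fun i hi => by subst hz; simp [hi])] at hk
  rcases P.center_cases S hP (Y.mem 8 (by norm_num)) hfk with h1 | h1
  · rw [← hk, h1]
  exfalso
  obtain ⟨x, hx⟩ : ∃ x, x = val y [3, 2, 1, 3, 4, 5, 3] := ⟨_, rfl⟩
  have hpow : val y spiderW = (x * y 7 * y 8) ^ 10 := by
    have e1 : val y [3, 2, 1, 3, 4, 5, 3, 7, 8] = x * y 7 * y 8 := by
      rw [hx]; simp [val_cons, val_nil, mul_assoc]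
    rw [← e1, spiderW, val_replicate]
  rw [hk, ← hsp, hpow] at h1
  have h2 := Commute.pow_left (Commute.refl (x * y 7 * y 8)) 10
  rw [h1] at h2
  have h3 : Commute (y 8) x := by
    rw [hx]
    simp only [val_cons, val_nil, mul_one]
    have := fun i (hi : i < 9) (he : edgeB 8 i = false) => Y.comm 8 i (by norm_num) hi he
    exact (this 3 (by norm_num) (by decide)).mul_right ((this 2 (by norm_num) (by decide)).mul_right
      ((this 1 (by norm_num) (by decide)).mul_right ((this 3 (by norm_num) (by decide)).mul_right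
      ((this 4 (by norm_num) (by decide)).mul_right ((this 5 (by norm_num) (by decide)).mul_right
      (this 3 (by norm_num) (by decide)))))))
  have h4 : Commute (y 8) (y 7) := by
    have e1 : y 7 = x⁻¹ * (x * y 7 * y 8) * (y 8)⁻¹ := by group
    rw [e1]
    exact (h3.inv_right.mul_right h2).mul_right (Commute.refl _).inv_right
  exact Y.ncomm 8 7 (by norm_num) (by norm_num) (by decide) h4

/-- The long element of the subdiagram of type E7 is trivial. -/
theorem Pattern.seven_one (Y : Pattern D y) (S : Setting D) (hP : Maps hF h D)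
    (hT : ¬ Commute (y 1) (val y tee)) : val y wordSeven = 1 := by
  have hW := S.weak
  have hsix := (Y.spider_one S hP hT).2
  have hpar : Commute (val y par) (y 6) := by
    have := Y.eqv hW par_six (by decide +kernel)
    rw [Y.val_conjW hW (by decide +kernel), val_cons, val_nil, mul_one, mul_inv_eq_iff_eq_mul] at this
    exact this
  have hroots : val y (conjW uOne [6]) = val y (conjW uTwo [6]) := by
    have h1 : val y uOne = val y uTwo * val y par := by
      rw [Y.eqv hW roots_equal (by decide +kernel), val_append, val_append, val_append, val_append,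
        Y.val_rev hW (by decide +kernel), hsix, (Y.cube_one hW hT (w := wThree) (by decide +kernel)).1,
        (Y.cube_one hW hT (w := wFour) (by decide +kernel)).2, inv_one, mul_one, mul_one, mul_one]
    rw [Y.val_conjW hW (by decide +kernel), Y.val_conjW hW (by decide +kernel), h1, val_cons, val_nil, mul_one]
    calc val y uTwo * val y par * y 6 * (val y uTwo * val y par)⁻¹
        = val y uTwo * (val y par * y 6 * (val y par)⁻¹) * (val y uTwo)⁻¹ := by group
      _ = val y uTwo * y 6 * (val y uTwo)⁻¹ := by rw [hpar.eq, mul_inv_cancel_right]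
  have : Finite F := Nat.finite_of_card_ne_zero (by rw [hF]; norm_num)
  obtain ⟨f, P⟩ := hP (y 0) (Y.mem 0 (by norm_num))
  obtain ⟨e⟩ := exists_coord hF
  obtain ⟨r, s, H, hpt⟩ := Y.frame hW (o := 0) (by norm_num) (p := [6, 5, 4, 3, 7, 8]) P e (by decide +kernel)
  have h2nb : y 2 ∈ nb D (y 0) := Y.mem_nb (by norm_num) (by norm_num) (by norm_num) (by decide)
  obtain ⟨c, hc, h2p⟩ := locate P hW H h2nb
    (req := [(1, true), (1344, true), (4, true), (256, false), (20, true), (1024, true)])
    (L := [5]) (by decide +kernel) (by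
    intro x hx
    simp only [List.mem_cons, List.not_mem_nil, or_false] at hx
    rcases hx with rfl | rfl | rfl | rfl | rfl | rfl
    · exact ⟨_, hpt 0 (by norm_num), iff_of_true (Y.comm 2 6 (by norm_num) (by norm_num) (by decide)) rfl⟩
    · exact ⟨_, hpt 1 (by norm_num), iff_of_true (Y.comm 2 5 (by norm_num) (by norm_num) (by decide)) rfl⟩
    · exact ⟨_, hpt 2 (by norm_num), iff_of_true (Y.comm 2 4 (by norm_num) (by norm_num) (by decide)) rfl⟩
    · exact ⟨_, hpt 3 (by norm_num), iff_of_false (Y.ncomm 2 3 (by norm_num) (by norm_num) (by decide)) (by simp)⟩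
    · exact ⟨_, hpt 4 (by norm_num), iff_of_true (Y.comm 2 7 (by norm_num) (by norm_num) (by decide)) rfl⟩
    · exact ⟨_, hpt 5 (by norm_num), iff_of_true (Y.comm 2 8 (by norm_num) (by norm_num) (by decide)) rfl⟩)
  simp only [List.mem_singleton] at hc
  subst hc
  obtain ⟨cd, hcd⟩ : ∃ cd : ℕ → ℕ, cd = fun i => [0, 0, 5, 256, 4, 1344, 1, 20, 1024].getD i 0 := ⟨_, rfl⟩
  have hyp : ∀ i ∈ ([2, 3, 4, 5, 6, 7, 8] : List ℕ), IsPt hF h f (y i) (vq e r s (qvec (cd i))) := by
    intro i hi
    subst hcd
    simp only [List.mem_cons, List.not_mem_nil, or_false] at hi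
    rcases hi with rfl | rfl | rfl | rfl | rfl | rfl | rfl
    · simpa using h2p
    · simpa [std] using hpt 3 (by norm_num)
    · simpa [std] using hpt 2 (by norm_num)
    · simpa [std] using hpt 1 (by norm_num)
    · simpa [std] using hpt 0 (by norm_num)
    · simpa [std] using hpt 4 (by norm_num)
    · simpa [std] using hpt 5 (by norm_num)
  have hword : ∀ {w os : List ℕ} {x cx : ℕ}, x ∈ ([2, 3, 4, 5, 6, 7, 8] : List ℕ) →
      (∀ i ∈ w, i ∈ ([2, 3, 4, 5, 6, 7, 8] : List ℕ)) → small w = true →
      chain (w.map cd) os (cd x) = true → os.headD (cd x) = cx →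
      IsPt hF h f (val y (conjW w [x])) (vq e r s (qvec cx)) := by
    intro w os x cx hx hw hsm hch hhead
    rw [Y.val_conjW hW hsm, val_cons, val_nil, mul_one, ← hhead]
    exact isPt_word hW H hch (fun i hi => hyp i (hw i hi)) (hyp x hx)
  have p4 := hword (w := wFourth) (os := trFourth) (x := 2) (cx := 21) (by simp) (by decide) (by decide)
    (by subst hcd; decide +kernel) (by subst hcd; decide +kernel)
  have pr := hword (w := wHigh) (os := trHigh) (x := 2) (cx := 16) (by simp) (by decide) (by decide)
    (by subst hcd; decide +kernel) (by subst hcd; decide +kernel)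
  have pk := hword (w := uTwo) (os := trRoot) (x := 6) (cx := 17) (by simp) (by decide) (by decide)
    (by subst hcd; decide +kernel) (by subst hcd; decide +kernel)
  obtain ⟨z, hz⟩ : ∃ z : ℕ → G, z = fun i => [y 2, y 7, y 4, val y (conjW wFourth [2]), y 6,
      val y (conjW wHigh [2]), val y (conjW uTwo [6])].getD i 1 := ⟨_, rfl⟩
  obtain ⟨k, hk, hfk⟩ := word_one (y := z) (w := [0, 1, 2, 3, 4, 5, 6])
    (cd := fun i => [5, 20, 4, 21, 1, 16, 17].getD i 0) H (by
      intro i hi
      subst hz
      simp only [List.mem_cons, List.not_mem_nil, or_false] at hi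
      rcases hi with rfl | rfl | rfl | rfl | rfl | rfl | rfl
      · simpa using h2p
      · simpa [hcd] using hyp 7 (by simp)
      · simpa [hcd] using hyp 4 (by simp)
      · simpa using p4
      · simpa [hcd] using hyp 6 (by simp)
      · simpa using pr
      · simpa using pk) (m := 1) (T := trProd) (by decide +kernel)
  have hzk : (k : G) = val y wordProd * val y (conjW uTwo [6]) := by
    subst hz
    rw [hk, show wordProd = [2, 7, 4] ++ (conjW wFourth [2] ++ ([6] ++ conjW wHigh [2])) from rfl,
      val_append, val_append, val_append]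
    simp [val_cons, val_nil, mul_assoc]
  have hw0 : val y wordSeven = val y (conjW uTwo [6]) * val y wordProd := by
    rw [Y.eqv hW w0_factors (by decide +kernel), val_append, hroots]
  have hk2 : val y (conjW uTwo [6]) ∈ D := Y.root hW (by decide +kernel) (by norm_num)
  have hk20 : Commute (y 0) (val y (conjW uTwo [6])) := pk.mem.2.2
  rcases P.center_cases S hP (Y.mem 0 (by norm_num)) hfk with h1 | h1
  · have h1' : val y wordProd * val y (conjW uTwo [6]) = 1 := hzk.symm.trans h1
    rw [hw0, eq_inv_of_mul_eq_one_left h1', hW.inv hk2, hW.sq _ hk2]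
  · exfalso
    have e1 : val y wordProd = y 0 * val y (conjW uTwo [6]) := by
      rw [← h1, hzk, mul_assoc, hW.sq _ hk2, mul_one]
    rw [e1, hk20.eq, hW.mul_mul_self hk2] at hw0
    have h2 := Y.eqv hW w0_one (by decide +kernel)
    rw [val_append, val_append, val_cons, val_nil, mul_one, hw0] at h2
    exact Y.ncomm 1 0 (by norm_num) (by norm_num) (by decide) h2

end CfsgLib.KnownB.TypeM22.Unique
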