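import Cfsg.Agent.Lib.KnownB.TypeM22Unique.Seed
import Cfsg.Agent.Lib.KnownB.TypeM22Unique.Relations
import Cfsg.Agent.Lib.Spor.Fi22.Class

/-!
A group of type M(22) is the presented Fischer group Fi22, its members the transpositions.
-/

set_option autoImplicit false

namespace CfsgLib.KnownB.TypeM22.Unique

open Cfsg CfsgLib.ThreeTransp CfsgLib.Involutions
open CfsgLib.KnownB.Fi22Mult (edgeB val val_cons val_nil val_append)
open CfsgLib.Spor.Fi22 (idx gen)

universe u

variable {G : Type u} [Group G] {D : Set G}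

theorem edgeB_swap : ((List.range 9).all fun i => (List.range 9).all fun j =>
    edgeB (swap i) (swap j) == edgeB i j) = true := by decide +kernel

theorem val_map_swap (y : ℕ → G) (w : List ℕ) : val (fun i => y (swap i)) w = val y (w.map swap) := by
  simp [val, List.map_map, Function.comp_def]

/-- The pattern is symmetric. -/
theorem Pattern.swapped {y : ℕ → G} (Y : Pattern D y) : Pattern D fun i => y (swap i) := by
  have hs : ∀ i, i < 9 → swap i < 9 := fun i hi => by unfold swap; split <;> omega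
  have he : ∀ i j, i < 9 → j < 9 → edgeB (swap i) (swap j) = edgeB i j := fun i j hi hj =>
    beq_iff_eq.1 (List.all_eq_true.1 (List.all_eq_true.1 edgeB_swap i (List.mem_range.2 hi)) j (List.mem_range.2 hj))
  exact ⟨fun i hi => Y.mem _ (hs i hi), fun i j hi hj e => Y.comm _ _ (hs i hi) (hs j hj) ((he i j hi hj).trans e),
    fun i j hi hj e => Y.ncomm _ _ (hs i hi) (hs j hj) ((he i j hi hj).trans e)⟩

theorem label_eq : ∀ x z : Cfsg.Spor.Fi22.Gen, Cfsg.Spor.coxLabel Cfsg.Spor.Fi22.edges x z =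
    if idx x = idx z then 1 else if edgeB (idx x) (idx z) then 3 else 2 := by
  intro x z; cases x <;> cases z <;> decide

theorem idx_lt (x : Cfsg.Spor.Fi22.Gen) : idx x < 9 := by cases x <;> decide

/-- The relators in members with the pattern. -/
theorem extra_val {y : ℕ → G} (hy : ∀ i, i < 9 → y i * y i = 1) :
    Cfsg.Spor.Fi22.extra.map (FreeGroup.lift fun x => y (idx x)) =
      [val y spiderW, val y wordAlt, val y wordSeven] := by
  have hi : ∀ i, i < 9 → (y i)⁻¹ = y i := fun i hi => inv_eq_of_mul_eq_one_left (hy i hi)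
  simp [Cfsg.Spor.Fi22.extra, spiderW, wordAlt, wordSeven, Cfsg.Spor.Fi22.a, Cfsg.Spor.Fi22.b, Cfsg.Spor.Fi22.c,
    Cfsg.Spor.Fi22.d, Cfsg.Spor.Fi22.e, Cfsg.Spor.Fi22.f, Cfsg.Spor.Fi22.g, Cfsg.Spor.Fi22.h, Cfsg.Spor.Fi22.i,
    idx, val, pow_succ, List.replicate_succ, mul_assoc]

variable [Finite G]

/-- Nine members in the pattern with one translation of order three satisfy the three relations. -/
theorem Pattern.relations (S : Setting D) {y : ℕ → G} (Y : Pattern D y) (hT : ¬ Commute (y 1) (val y tee)) :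
    val y spiderW = 1 ∧ val y wordAlt = 1 ∧ val y wordSeven = 1 := by
  have hW := S.weak
  obtain ⟨F, _, _, σ, hF, hσ, hP⟩ := S.exists_pmap
  have h7 := Y.seven_one S hP hT
  have hT' : ¬ Commute (y (swap 1)) (val (fun i => y (swap i)) tee) := by
    have e1 := Y.eqv hW sym_five (by decide +kernel)
    have e2 := Y.eqv hW sym_tee (by decide +kernel)
    rw [Y.val_conjW hW (by decide +kernel)] at e1 e2
    rw [val_map_swap, show swap 1 = 5 from rfl, ← e2,
      show y 5 = val y [5] by rw [val_cons, val_nil, mul_one], ← e1, commute_conj_iff, val_cons, val_nil, mul_one]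
    exact hT
  have h7' := Y.swapped.seven_one S hP hT'
  exact ⟨(Y.spider_one S hP hT).1, by rw [Y.eqv hW sym_seven (by decide +kernel), ← val_map_swap, h7'], h7⟩

/-- Nine such members are the images of the generators of Fi22. -/
theorem Pattern.exists_lift (S : Setting D) {y : ℕ → G} (Y : Pattern D y) (hT : ¬ Commute (y 1) (val y tee)) :
    ∃ φ : Cfsg.Spor.Fi22 →* G, ∀ x, φ (PresentedGroup.of x) = y (idx x) := by
  have hW := S.weak
  obtain ⟨hsp, halt, h7⟩ := Y.relations S hT
  have hsq : ∀ i, i < 9 → y i * y i = 1 := fun i hi => hW.sq _ (Y.mem i hi)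
  have hrel : ∀ r ∈ Cfsg.Spor.coxRelators Cfsg.Spor.Fi22.edges ∪ {r | r ∈ Cfsg.Spor.Fi22.extra},
      FreeGroup.lift (fun x => y (idx x)) r = 1 := by
    rintro r (⟨x, -, z, -, rfl⟩ | hr)
    · rw [map_pow, map_mul, FreeGroup.lift_apply_of, FreeGroup.lift_apply_of, label_eq]
      have hx := idx_lt x
      have hz := idx_lt z
      split_ifs with h1 h2
      · rw [pow_one, h1, hsq _ hz]
      · rw [pow_succ, pow_two, mul_assoc]
        exact pow_three hW (Y.mem _ hx) (Y.mem _ hz) (Y.ncomm _ _ hx hz h2)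
      · rw [pow_two, ← mul_assoc, mul_assoc (y (idx x)) (y (idx z)) (y (idx x)),
          (Y.comm _ _ hx hz (by simpa using h2)).symm.eq, ← mul_assoc, hsq _ hx, one_mul, hsq _ hz]
    · have : FreeGroup.lift (fun x => y (idx x)) r ∈ [val y spiderW, val y wordAlt, val y wordSeven] :=
        extra_val hsq ▸ List.mem_map.2 ⟨r, hr, rfl⟩
      simp only [hsp, halt, h7, List.mem_cons, List.not_mem_nil, or_false, or_self] at this
      exact this
  exact ⟨PresentedGroup.toGroup hrel, fun x => PresentedGroup.toGroup.of hrel⟩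

/-- Nine members of a group of type M(22) satisfy the relations of Fi22. -/
theorem exists_hom (S : Setting D) :
    ∃ φ : Cfsg.Spor.Fi22 →* G, φ CfsgLib.Spor.Fi22.Transp.ga ∈ D ∧ φ CfsgLib.Spor.Fi22.Transp.ga ≠ 1 := by
  obtain ⟨F, _, _, σ, hF, hσ, hP⟩ := S.exists_pmap
  obtain ⟨y, Y, hT⟩ := exists_pattern S hP
  obtain ⟨φ, hφ⟩ := Y.exists_lift S hT
  refine ⟨φ, ?_⟩
  have he : φ CfsgLib.Spor.Fi22.Transp.ga = y 0 := hφ _
  rw [he]
  refine ⟨Y.mem 0 (by norm_num), fun e => Y.ncomm 0 1 (by norm_num) (by norm_num) (by decide) ?_⟩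
  rw [e]
  exact Commute.one_left _

/-- A group whose members have the points of type M(22) is isomorphic to Fi22. -/
theorem exists_iso_of_setting (S : Setting D) :
    ∃ e : G ≃* Cfsg.Spor.Fi22, e '' D = conjugatesOf CfsgLib.Spor.Fi22.Transp.ga := by
  obtain ⟨φ, hmem, hne⟩ := exists_hom S
  have : IsSimpleGroup Cfsg.Spor.Fi22 := CfsgLib.Spor.Fi22.isFi22.1
  have : Finite Cfsg.Spor.Fi22 := CfsgLib.Spor.Fi22.finite
  have hinj : Function.Injective φ := by
    rw [← MonoidHom.ker_eq_bot_iff]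
    refine ((MonoidHom.normal_ker φ).eq_bot_or_eq_top).resolve_right fun e => hne ?_
    exact MonoidHom.mem_ker.1 (e ▸ Subgroup.mem_top _)
  obtain ⟨F, _, _, σ, hF, hσ, hP⟩ := S.exists_pmap
  obtain ⟨hcard, -, -, -⟩ := S.counts hP
  have hsub : φ '' conjugatesOf CfsgLib.Spor.Fi22.Transp.ga ⊆ D := by
    rintro _ ⟨d, hd, rfl⟩
    obtain ⟨g, rfl⟩ := CfsgLib.Spor.Fi22.Transp.mem_class.1 hd
    rw [map_mul, map_mul, map_inv]
    exact S.cls.conj _ _ hmem
  have himg : φ '' conjugatesOf CfsgLib.Spor.Fi22.Transp.ga = D := by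
    refine Set.eq_of_subset_of_ncard_le hsub ?_ (Set.toFinite D)
    rw [Set.ncard_image_of_injective _ hinj, hcard, ← Nat.card_coe_set_eq, CfsgLib.Spor.Fi22.Transp.card_class]
  have hsurj : Function.Surjective φ := by
    rw [← MonoidHom.range_eq_top, eq_top_iff, ← S.cls.gen, Subgroup.closure_le, ← himg]
    rintro _ ⟨d, -, rfl⟩
    exact ⟨d, rfl⟩
  refine ⟨(MulEquiv.ofBijective φ ⟨hinj, hsurj⟩).symm, ?_⟩
  rw [← himg, Set.image_image]
  exact (Set.image_congr fun d _ => (MulEquiv.ofBijective φ ⟨hinj, hsurj⟩).symm_apply_apply d).trans (Set.image_id _)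

/-- A group of type M(22) is isomorphic to Fi22, the transpositions going to the members. -/
theorem exists_iso_fi22 (hD : IsThreeTranspositionGroup D) (hp : IsPrimitiveUnderConj D) (ht : IsOfTypeM22 G D) :
    ∃ e : G ≃* Cfsg.Spor.Fi22, e '' D = conjugatesOf CfsgLib.Spor.Fi22.Transp.ga :=
  exists_iso_of_setting (setting_of hD hp ht)

end CfsgLib.KnownB.TypeM22.Unique
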