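import Cfsg.Agent.Lib.KnownB.TypeM22.Action
import Cfsg.Agent.Lib.KnownB.Fi22Mult.Moves

/-!
Members given by codes of vectors: conjugation, location by commutations, and products acting as scalars.
-/

set_option autoImplicit false

namespace CfsgLib.KnownB.TypeM22.Unique

open Cfsg CfsgLib.Classical.Unitary CfsgLib.ThreeTransp CfsgLib.ThreeTransp.USix CfsgLib.Involutions
open CfsgLib.Spor (QField)
open CfsgLib.KnownB.Fi22Mult (val val_nil val_cons val_append)
open Matrix

universe u

/-- The code of a vector. -/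
def enc (v : Fin 6 → QField) : ℕ :=
  (v 0).val.val + 4 * ((v 1).val.val + 4 * ((v 2).val.val + 4 * ((v 3).val.val + 4 * ((v 4).val.val +
    4 * (v 5).val.val))))

theorem enc_ok : ((List.range 4096).all fun c => Nat.beq (enc (qvec c)) c) = true := by decide +kernel

theorem qvec_enc (v : Fin 6 → QField) : qvec (enc v) = v := by
  obtain ⟨c, rfl⟩ := qvec_bij.2 v
  exact congrArg qvec (Nat.eq_of_beq_eq_true (List.all_eq_true.1 enc_ok c.val (List.mem_range.2 c.2)))

theorem enc_lt (v : Fin 6 → QField) : enc v < 4096 := by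
  have h : ∀ x : QField, x.val.val < 4 := fun x => x.val.2
  have := h (v 0); have := h (v 1); have := h (v 2); have := h (v 3); have := h (v 4); have := h (v 5)
  unfold enc
  omega

/-- The code of the image under the transvection at a point. -/
def mv (v c : ℕ) : ℕ := enc fun t => qvec c t + bform qsig (qvec c) (qvec v) * qvec v t

/-- The checked images under the last transvections of a list. -/
def chain : List ℕ → List ℕ → ℕ → Bool
  | [], [], _ => true
  | v :: vs, o :: os, c => Nat.beq (mv v (os.headD c)) o && chain vs os c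
  | _, _, _ => false

/-- Two vectors are proportional. -/
def prop1 (c k : ℕ) : Bool := [1, 2, 3].any fun m => decide (qvec k = fun t => dig m 0 * qvec c t)

variable {F : Type} [Field F] {σ : F →+* F} {hF : Nat.card F = 2 ^ 2} {h : UFrob σ 2}
  {G : Type u} [Group G] {D : Set G} {d : G} {f : Subgroup.closure (nb D d) →* PSU 6 F 2}
  {e : QField ≃+* F} {r s : Fin 3 → V F}

theorem vq_mv (H : Hyp σ r s) (h : UFrob σ 2) (v c : ℕ) : vq e r s (qvec (mv v c)) =
    vq e r s (qvec c) + uh σ (vq e r s (qvec c)) (vq e r s (qvec v)) • vq e r s (qvec v) := by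
  rw [mv, qvec_enc, vq_add, H.vq_uh h]

theorem isPt_mv (hW : WeakTS D) (H : Hyp σ r s) {y z : G} {v c : ℕ}
    (p : IsPt hF h f y (vq e r s (qvec v))) (q : IsPt hF h f z (vq e r s (qvec c))) :
    IsPt hF h f (y * z * y) (vq e r s (qvec (mv v c))) :=
  (p.conj hW q).congr (vq_mv H h v c).symm

theorem commute_code (P : PMap hF h D d f) (hW : WeakTS D) (H : Hyp σ r s) {y z : G} {v c : ℕ}
    (p : IsPt hF h f y (vq e r s (qvec v))) (q : IsPt hF h f z (vq e r s (qvec c))) :
    Commute y z ↔ bform qsig (qvec v) (qvec c) = 0 := by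
  rw [p.comm P hW q, H.vq_uh h, map_eq_zero_iff _ e.injective]

theorem isPt_prop {y : G} {c k : ℕ} (hp : prop1 c k = true) (p : IsPt hF h f y (vq e r s (qvec k))) :
    IsPt hF h f y (vq e r s (qvec c)) := by
  obtain ⟨m, hm, hk⟩ := List.any_eq_true.1 hp
  have hk' := of_decide_eq_true hk
  have hm0 : dig m 0 ≠ 0 := by
    simp only [List.mem_cons, List.not_mem_nil, or_false] at hm
    rcases hm with rfl | rfl | rfl <;> decide
  have hm0' : e (dig m 0) ≠ 0 := (map_ne_zero_iff _ e.injective).2 hm0
  have := (p.congr (show vq e r s (qvec k) = e (dig m 0) • vq e r s (qvec c) by rw [hk', vq_smul])).smul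
    (inv_ne_zero hm0')
  rwa [inv_smul_smul₀ hm0'] at this

/-- The code is consistent with a list of commutations. -/
def meets (req : List (ℕ × Bool)) (c : ℕ) : Bool :=
  req.all fun x => if x.2 then decide (bform qsig (qvec c) (qvec x.1) = 0)
    else !decide (bform qsig (qvec c) (qvec x.1) = 0)

/-- All points consistent with a list of commutations are in the second list. -/
def locOK (req : List (ℕ × Bool)) (L : List ℕ) : Bool :=
  (List.range 4096).all fun c => Nat.beq c 0 || !isoN c || !meets req c || L.any fun l => prop1 l c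

/-- A member is located by its commutations. -/
theorem locate (P : PMap hF h D d f) (hW : WeakTS D) (H : Hyp σ r s) {y : G} (hy : y ∈ nb D d)
    {req : List (ℕ × Bool)} {L : List ℕ} (hok : locOK req L = true)
    (hreq : ∀ x ∈ req, ∃ z, IsPt hF h f z (vq e r s (qvec x.1)) ∧ (Commute y z ↔ x.2 = true)) :
    ∃ c ∈ L, IsPt hF h f y (vq e r s (qvec c)) := by
  have : Finite F := Nat.finite_of_card_ne_zero (by rw [hF]; norm_num)
  obtain ⟨v, hv0, hv⟩ := exists_vec P hy
  obtain ⟨c, hc⟩ := (H.cv_bij h e).2 v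
  have hc' : v = vq e r s (qvec c.val) := hc.symm
  have p := hv.congr hc'
  have hiso : isoN c.val = true := (isoN_iff c.2).1 (e.injective (by
    rw [← H.vq_uh h, map_zero, ← hc']; exact hv.iso))
  have hc0 : Nat.beq c.val 0 = false := by
    rw [← Bool.not_eq_true]
    intro e0
    refine hv0 ?_
    rw [hc', Nat.eq_of_beq_eq_true e0, show qvec 0 = 0 by decide, vq_zero]
  have hmeet : meets req c.val = true := List.all_eq_true.2 fun x hx => by
    obtain ⟨z, hz, hzc⟩ := hreq x hx
    rw [commute_code P hW H p hz] at hzc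
    cases hb : x.2 <;> simp [hb] at hzc ⊢ <;> exact hzc
  have h1 := List.all_eq_true.1 hok c.val (List.mem_range.2 c.2)
  simp only [hc0, hiso, hmeet, Bool.not_true, Bool.false_or] at h1
  obtain ⟨l, hl, hp⟩ := List.any_eq_true.1 h1
  exact ⟨l, hl, isPt_prop hp p⟩

theorem val_reverse {y : ℕ → G} : ∀ {w : List ℕ}, (∀ i ∈ w, y i * y i = 1) → val y w.reverse = (val y w)⁻¹
  | [], _ => by simp [val_nil]
  | a :: w, hw => by
    rw [List.reverse_cons, val_append, val_reverse fun i hi => hw i (List.mem_cons_of_mem _ hi), val_cons,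
      val_cons, val_nil, mul_one, _root_.mul_inv_rev, inv_eq_of_mul_eq_one_right (hw a List.mem_cons_self)]

/-- A conjugate by a word, in codes. -/
theorem isPt_word (hW : WeakTS D) (H : Hyp σ r s) {y : ℕ → G} {cd : ℕ → ℕ} :
    ∀ {w os : List ℕ} {z : G} {c : ℕ}, chain (w.map cd) os c = true →
    (∀ i ∈ w, IsPt hF h f (y i) (vq e r s (qvec (cd i)))) → IsPt hF h f z (vq e r s (qvec c)) →
      IsPt hF h f (val y w * z * (val y w)⁻¹) (vq e r s (qvec (os.headD c)))
  | [], [], z, c, _, _, hz => by simpa [val_nil] using hz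
  | [], _ :: _, _, _, hch, _, _ => by simp [chain] at hch
  | a :: w, [], _, _, hch, _, _ => by simp [chain] at hch
  | a :: w, o :: os, z, c, hch, hy, hz => by
    simp only [List.map_cons, chain, Bool.and_eq_true] at hch
    have ih := isPt_word hW H hch.2 (fun i hi => hy i (List.mem_cons_of_mem _ hi)) hz
    have h1 := isPt_mv hW H (hy a List.mem_cons_self) ih
    rw [Nat.eq_of_beq_eq_true hch.1] at h1
    have e1 : y a * (val y w * z * (val y w)⁻¹) * y a = val y (a :: w) * z * (val y (a :: w))⁻¹ := by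
      rw [val_cons, _root_.mul_inv_rev, hW.inv (hy a List.mem_cons_self).mem.1]
      simp only [mul_assoc]
    rw [← e1]
    exact h1

/-- A word in members acts by a matrix, in codes. -/
theorem act_word {y : ℕ → G} {cd : ℕ → ℕ} (H : Hyp σ r s) :
    ∀ {w : List ℕ}, (∀ i ∈ w, IsPt hF h f (y i) (vq e r s (qvec (cd i)))) →
      ∃ (k : Subgroup.closure (nb D d)) (M : SU 6 F 2), (k : G) = val y w ∧ f k = QuotientGroup.mk M ∧
        ∀ os c, chain (w.map cd) os c = true →
          M.1.1 *ᵥ vq e r s (qvec c) = vq e r s (qvec (os.headD c))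
  | [], _ => ⟨1, 1, by simp [val_nil], by rw [map_one, QuotientGroup.mk_one], fun os c hch => by
      cases os with
      | nil => simp
      | cons => simp [chain] at hch⟩
  | a :: w, hy => by
    obtain ⟨k, M, hk, hkM, hM⟩ := act_word H (w := w) fun i hi => hy i (List.mem_cons_of_mem _ hi)
    obtain ⟨ha, hv, ea⟩ := hy a List.mem_cons_self
    refine ⟨el ha * k, tr hF h _ hv * M, by rw [val_cons, Subgroup.coe_mul, hk]; rfl,
      by rw [map_mul, ea, hkM, USix.pt, QuotientGroup.mk_mul], fun os c hch => ?_⟩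
    cases os with
    | nil => simp [chain] at hch
    | cons o os =>
      simp only [List.map_cons, chain, Bool.and_eq_true] at hch
      rw [su_mul_mulVec, hM os c hch.2, tr_mulVec, ← vq_mv H h, Nat.eq_of_beq_eq_true hch.1]
      rfl

/-- The images of the six basis codes are one multiple of them. -/
def scalarOK (vs : List ℕ) (m : ℕ) (T : List (List ℕ)) : Bool :=
  (List.range 6).all fun i => chain vs (T.getD i []) (4 ^ i) &&
    decide (qvec ((T.getD i []).headD (4 ^ i)) = fun t => dig m 0 * qvec (4 ^ i) t)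

/-- A word acting as a scalar is trivial on the points. -/
theorem word_one (H : Hyp σ r s) {y : ℕ → G} {w : List ℕ} {cd : ℕ → ℕ}
    (hy : ∀ i ∈ w, IsPt hF h f (y i) (vq e r s (qvec (cd i)))) {m : ℕ} {T : List (List ℕ)}
    (hok : scalarOK (w.map cd) m T = true) :
    ∃ k : Subgroup.closure (nb D d), (k : G) = val y w ∧ f k = 1 := by
  have : Finite F := Nat.finite_of_card_ne_zero (by rw [hF]; norm_num)
  obtain ⟨k, M, hk, hkM, hM⟩ := act_word H hy
  refine ⟨k, hk, ?_⟩
  obtain ⟨a, ha⟩ : ∃ a, a = e (dig m 0) := ⟨_, rfl⟩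
  have hb : ∀ i : Fin 6, M.1.1 *ᵥ vq e r s (qvec (4 ^ i.val)) = a • vq e r s (qvec (4 ^ i.val)) := by
    intro i
    have h1 := List.all_eq_true.1 hok i.val (List.mem_range.2 i.2)
    simp only [Bool.and_eq_true, decide_eq_true_eq] at h1
    rw [hM _ _ h1.1, h1.2, vq_smul, ha]
  have he : ∀ i : Fin 6, vq e r s (qvec (4 ^ i.val)) = ![r 0, r 1, r 2, s 0, s 1, s 2] i := fun i => by
    have : qvec (4 ^ i.val) = Pi.single i 1 := by revert i; decide
    rw [this]
    fin_cases i <;> simp [vq, lin]
  have hall : ∀ x : V F, M.1.1 *ᵥ x = a • x := by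
    intro x
    obtain ⟨c, rfl⟩ := H.lin_surj h x
    have e0 := hb 0; have e1 := hb 1; have e2 := hb 2; have e3 := hb 3; have e4 := hb 4; have e5 := hb 5
    rw [he] at e0 e1 e2 e3 e4 e5
    simp only [Matrix.cons_val] at e0 e1 e2 e3 e4 e5
    simp only [lin, mulVec_add, mulVec_smul, e0, e1, e2, e3, e4, e5, smul_add, smul_comm a]
  rw [hkM, QuotientGroup.eq_one_iff, Subgroup.mem_center_iff]
  exact fun X => su_ext fun x => by rw [su_mul_mulVec, su_mul_mulVec, hall, hall, mulVec_smul]

end CfsgLib.KnownB.TypeM22.Unique
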