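import Cfsg.Agent.Lib.KnownB.TypeM22.Action

/-!
The members commuting with two non-commuting members meet every totally isotropic line in none or two
points.
-/

set_option autoImplicit false

namespace CfsgLib.KnownB.TypeM22.Unique

open Cfsg CfsgLib.Classical.Unitary CfsgLib.ThreeTransp CfsgLib.ThreeTransp.USix CfsgLib.Involutions

universe u

variable {F : Type} [Field F] {σ : F →+* F} {hF : Nat.card F = 2 ^ 2} {h : UFrob σ 2}

include hF h in
/-- A frame continuing two orthogonal hyperbolic vectors. -/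
theorem exists_hyp_three {p q r₁ : V F} (hp : uh σ p p = 0) (hq : uh σ q q = 0) (hpq : uh σ p q = 1)
    (h11 : uh σ r₁ r₁ = 0) (h10 : r₁ ≠ 0) (h1p : uh σ r₁ p = 0) (h1q : uh σ r₁ q = 0) :
    ∃ r s, Hyp σ r s ∧ r 0 = p ∧ r 1 = r₁ := by
  have hpq' : uh σ p q ≠ 0 := by rw [hpq]; exact one_ne_zero
  obtain ⟨s₁, hs11, hs1r, hs1p, hs1q⟩ := exists_partner hF h hp hq hpq' h11 h10 h1p h1q
  obtain ⟨r₂, h20, h22, h2p, h2q, h2r, h2s⟩ := exists_iso_in_kernel hF h p q r₁ s₁
  obtain ⟨x, hxx, hxr, hxp, hxq⟩ := exists_partner hF h hp hq hpq' h22 h20 h2p h2q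
  have hr1s1 : uh σ r₁ s₁ = 1 := by rw [← h.symm, hs1r, map_one]
  set y := x + uh σ x s₁ • r₁ + uh σ x r₁ • s₁ with hy
  have hyr : uh σ y r₂ = 1 := by
    rw [hy, uh_add_left, uh_add_left, uh_smul_left, uh_smul_left, hxr, h.swap_zero h2r, h.swap_zero h2s]
    ring
  obtain ⟨c, hc⟩ := iso_shift hF h h22 hyr
  set s₂ := y + c • r₂ with hs₂
  have hyp : uh σ y p = 0 := by
    rw [hy, uh_add_left, uh_add_left, uh_smul_left, uh_smul_left, hxp, h1p, hs1p]; ring
  have hyq : uh σ y q = 0 := by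
    rw [hy, uh_add_left, uh_add_left, uh_smul_left, uh_smul_left, hxq, h1q, hs1q]; ring
  have hy1 : uh σ y r₁ = 0 := by
    rw [hy, uh_add_left, uh_add_left, uh_smul_left, uh_smul_left, h11, hs1r]
    linear_combination add_self hF (uh σ x r₁)
  have hy2 : uh σ y s₁ = 0 := by
    rw [hy, uh_add_left, uh_add_left, uh_smul_left, uh_smul_left, hs11, hr1s1]
    linear_combination add_self hF (uh σ x s₁)
  have hs2 : ∀ {v}, uh σ y v = 0 → uh σ r₂ v = 0 → uh σ s₂ v = 0 := fun {v} a b => by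
    rw [hs₂, uh_add_left, uh_smul_left, a, b, mul_zero, add_zero]
  have t2 : uh σ r₂ s₂ = 1 := by
    rw [← h.symm, hs₂, uh_add_left, uh_smul_left, hyr, h22, mul_zero, add_zero, map_one]
  refine ⟨![p, r₁, r₂], ![q, s₁, s₂], ⟨?_, ?_, ?_⟩, rfl, rfl⟩
  · intro i j
    fin_cases i <;> fin_cases j <;>
      simp [hp, h11, h22, h1p, h2p, h2r, h.swap_zero h1p, h.swap_zero h2p, h.swap_zero h2r]
  · have a1 := hs2 hy2 h2s
    have a2 := hs2 hyq h2q
    intro i j
    fin_cases i <;> fin_cases j <;>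
      simp [hq, hs11, hs1q, h.swap_zero hs1q, hc, a1, a2, h.swap_zero a1, h.swap_zero a2]
  · intro i j
    fin_cases i <;> fin_cases j <;>
      simp [hpq, t2, hr1s1, h1q, h2q, h2s, h.swap_zero hs1p, h.swap_zero (hs2 hyp h2p),
        h.swap_zero (hs2 hy1 h2r)]

include hF h in
/-- A vector orthogonal to all isotropic vectors orthogonal to two points of a line is on the line. -/
theorem mem_line {A B X : V F} (hA : uh σ A A = 0) (hA0 : A ≠ 0) (hB : uh σ B B = 0) (hAB : uh σ B A = 0)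
    (hind : ∀ c : F, B ≠ c • A)
    (hX : ∀ z : V F, z ≠ 0 → uh σ z z = 0 → uh σ z A = 0 → uh σ z B = 0 → uh σ z X = 0) :
    ∃ a b : F, X = a • A + b • B := by
  obtain ⟨r', s', H', hr'⟩ := exists_frame_at hF h hA hA0
  obtain ⟨q, hq⟩ : ∃ q, q = s' 0 := ⟨_, rfl⟩
  have hAq : uh σ A q = 1 := by rw [← hr', hq, H'.rs, if_pos rfl]
  set c := uh σ B q with hc
  have n1 : B - c • A ≠ 0 := fun e => hind c (sub_eq_zero.1 e)
  have hB' : uh σ (B - c • A) (B - c • A) = 0 := by
    simp [uh_sub_left, uh_sub_right, uh_smul_left, uh_smul_right, hA, hB, hAB, h.swap_zero hAB]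
  obtain ⟨r, s, H, h0, h1⟩ := exists_hyp_three (hF := hF) (h := h) hA (by rw [hq]; exact H'.ss 0 0) hAq hB' n1
    (by simp [uh_sub_left, uh_smul_left, hA, hAB]) (by simp [uh_sub_left, uh_smul_left, hAq, ← hc])
  have hne : ∀ i, r i ≠ 0 ∧ s i ≠ 0 := fun i => ⟨fun e => by
      have := H.rs i i; rw [e, uh_zero_left, if_pos rfl] at this; exact zero_ne_one this, fun e => by
      have := H.rs i i; rw [e, uh_zero_right, if_pos rfl] at this; exact zero_ne_one this⟩
  have hperp : ∀ {z}, uh σ z (r 0) = 0 → uh σ z (r 1) = 0 → uh σ z A = 0 ∧ uh σ z B = 0 := fun {z} a b => by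
    rw [h0] at a
    refine ⟨a, ?_⟩
    simpa [h1, uh_sub_right, uh_smul_right, a] using b
  have hr : ∀ i, uh σ X (r i) = 0 := fun i =>
    h.swap_zero (hX _ (hne i).1 (H.rr i i) (hperp (H.rr i 0) (H.rr i 1)).1 (hperp (H.rr i 0) (H.rr i 1)).2)
  have hs : uh σ X (s 2) = 0 := by
    have e0 : uh σ (s 2) (r 0) = 0 := by rw [H.sr h]; simp
    have e1 : uh σ (s 2) (r 1) = 0 := by rw [H.sr h]; simp
    exact h.swap_zero (hX _ (hne 2).2 (H.ss 2 2) (hperp e0 e1).1 (hperp e0 e1).2)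
  refine ⟨uh σ X (s 0) - uh σ X (s 1) * c, uh σ X (s 1), ?_⟩
  conv_lhs => rw [H.expand h X]
  simp [Fin.sum_univ_three, hr, hs, h0, h1, smul_sub, sub_smul, smul_smul]
  abel

variable {G : Type u} [Group G] {D : Set G} {d : G} {f : Subgroup.closure (nb D d) →* PSU 6 F 2}

theorem isPt_ne_zero (P : PMap hF h D d f) {y : G} {v : V F} (p : IsPt hF h f y v) : v ≠ 0 := by
  intro e
  obtain ⟨hy, hv, ey⟩ := p
  obtain ⟨u, hu, hu0, ey'⟩ := P.pt hy
  obtain ⟨a, ha⟩ := pt_eq_iff hF h hu hv hu0 (ey'.symm.trans ey)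
  exact hu0 (by rw [ha, e, smul_zero])

theorem isPt_ne_smul (P : PMap hF h D d f) {y z : G} {v w : V F} (p : IsPt hF h f y v)
    (q : IsPt hF h f z w) (hne : y ≠ z) (a : F) : v ≠ a • w := fun e => by
  rcases eq_or_ne a 0 with rfl | ha
  · exact isPt_ne_zero P p (by rw [e, zero_smul])
  · exact hne (IsPt.unique P p ((q.smul ha).congr e.symm))

/-- The line axiom. -/
theorem line_axiom (hW : WeakTS D) (hP : Maps hF h D) {a b : G} (ha : a ∈ D) (hb : b ∈ D) (hab : ¬ Commute a b)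
    {f : Subgroup.closure (nb D a) →* PSU 6 F 2} (P : PMap hF h D a f)
    {y : Fin 5 → G} {v : Fin 5 → V F} (hy : ∀ i, IsPt hF h f (y i) (v i)) (hinj : Function.Injective y)
    (horth : ∀ i j, uh σ (v i) (v j) = 0) (hspan : ∀ i, ∃ α β : F, v i = α • v 0 + β • v 1)
    {i : Fin 5} (hi : Commute b (y i)) : ∃ j, j ≠ i ∧ ∀ k, k ≠ i → (Commute b (y k) ↔ k = j) := by
  classical
  have : Finite F := Nat.finite_of_card_ne_zero (by rw [hF]; norm_num)
  have := Fintype.ofFinite F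
  -- partners of two of the five
  have hgraph : ∀ {z : G}, z ∈ nb D a → ∀ {k l}, k ≠ l → Commute z (y k) → Commute z (y l) →
      ∀ m, Commute z (y m) := by
    intro z hz k l hkl ck cl m
    obtain ⟨w, hw0, hw⟩ := exists_vec P hz
    have hk := (hw.comm P hW (hy k)).1 ck
    have hl := (hw.comm P hW (hy l)).1 cl
    obtain ⟨α, β, ek⟩ := hspan k
    obtain ⟨γ, δ, el'⟩ := hspan l
    have hdet : α * δ - β * γ ≠ 0 := fun e => by
      rcases eq_or_ne γ 0 with rfl | hγ
      · rcases eq_or_ne δ 0 with rfl | hδ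
        · exact isPt_ne_zero P (hy l) (by rw [el']; simp)
        · refine isPt_ne_smul P (hy k) (hy l) (fun e' => hkl (hinj e')) (β * δ⁻¹) ?_
          have : α = 0 := by simpa [hδ] using e
          rw [ek, el', this]
          simp [smul_smul, hδ]
      · refine isPt_ne_smul P (hy k) (hy l) (fun e' => hkl (hinj e')) (α * γ⁻¹) ?_
        rw [ek, el', smul_add, smul_smul, smul_smul, mul_assoc, inv_mul_cancel₀ hγ, mul_one]
        congr 2
        field_simp
        linear_combination -e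
    rw [ek, uh_add_right, uh_smul_right, uh_smul_right] at hk
    rw [el', uh_add_right, uh_smul_right, uh_smul_right] at hl
    have hdet' : σ α * σ δ - σ β * σ γ ≠ 0 := by
      rw [← map_mul, ← map_mul, ← map_sub]; exact (map_ne_zero σ).2 hdet
    have h0 : uh σ w (v 0) = 0 := (mul_eq_zero.1 (show (σ α * σ δ - σ β * σ γ) * uh σ w (v 0) = 0 by
      linear_combination σ δ * hk - σ β * hl)).resolve_left hdet'
    have h1 : uh σ w (v 1) = 0 := (mul_eq_zero.1 (show (σ α * σ δ - σ β * σ γ) * uh σ w (v 1) = 0 by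
      linear_combination σ α * hl - σ γ * hk)).resolve_left hdet'
    obtain ⟨μ, ν, em⟩ := hspan m
    exact (hw.comm P hW (hy m)).2 (by rw [em, uh_add_right, uh_smul_right, uh_smul_right, h0, h1]; simp)
  have hyy : ∀ k l, Commute (y k) (y l) := fun k l => ((hy k).comm P hW (hy l)).2 (horth k l)
  have hya : ∀ k, y k ∈ nb D a := fun k => (hy k).mem
  -- inside the space of the chosen member
  obtain ⟨g, Q⟩ := hP (y i) (hya i).1
  have hanb : a ∈ nb D (y i) := ⟨ha, (hya i).2.1.symm, (hya i).2.2.symm⟩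
  obtain ⟨A, hA0, hA⟩ := exists_vec Q hanb
  have hknb : ∀ k : {k : Fin 5 // k ≠ i}, y k.1 ∈ nb D (y i) := fun k =>
    ⟨(hya k.1).1, fun e => k.2 (hinj e), hyy i k.1⟩
  choose B hB0 hB using fun k => exists_vec Q (hknb k)
  obtain ⟨j₀⟩ : Nonempty {k : Fin 5 // k ≠ i} := by
    by_cases e : i = 0
    · exact ⟨⟨1, by rw [e]; decide⟩⟩
    · exact ⟨⟨0, Ne.symm e⟩⟩
  have hAB : ∀ k, uh σ (B k) A = 0 := fun k => ((hB k).comm Q hW hA).1 (hya k.1).2.2.symm
  have hcoord : ∀ k, ∃ lam mu : F, B k = lam • A + mu • B j₀ := by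
    intro k
    refine mem_line (hF := hF) (h := h) hA.iso hA0 (hB j₀).iso (hAB j₀)
      (fun c => isPt_ne_smul Q (hB j₀) hA (hya j₀.1).2.1 c) fun z hz0 hz hzA hzB => ?_
    obtain ⟨x, hx⟩ := exists_isPt Q hz hz0
    refine (hx.comm Q hW (hB k)).1 ?_
    rcases eq_or_ne x a with rfl | hxa
    · exact (hya k.1).2.2
    · exact hgraph ⟨hx.mem.1, hxa, ((hx.comm Q hW hA).2 hzA).symm⟩ (Ne.symm j₀.2) hx.mem.2.2.symm
        ((hx.comm Q hW (hB j₀)).2 hzB) k.1
  choose lam mu hco using hcoord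
  have hmu : ∀ k, mu k ≠ 0 := fun k e => isPt_ne_smul Q (hB k) hA (hya k.1).2.1 (lam k) (by
    rw [hco k, e, zero_smul, add_zero])
  have hrinj : Function.Injective fun k => lam k * (mu k)⁻¹ := fun k l e => by
    by_contra hkl
    refine isPt_ne_smul Q (hB k) (hB l) (fun e' => hkl (Subtype.ext (hinj e'))) (mu k * (mu l)⁻¹) ?_
    have e' : lam k = mu k * (mu l)⁻¹ * lam l := by
      have e1 : lam k * (mu k)⁻¹ = lam l * (mu l)⁻¹ := e
      calc lam k = lam k * (mu k)⁻¹ * mu k := by rw [inv_mul_cancel_right₀ (hmu k)]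
        _ = mu k * (mu l)⁻¹ * lam l := by rw [e1]; ring
    rw [hco k, hco l, e', smul_add, smul_smul, smul_smul, inv_mul_cancel_right₀ (hmu l)]
  have hrbij : Function.Bijective fun k => lam k * (mu k)⁻¹ := by
    refine (Fintype.bijective_iff_injective_and_card _).2 ⟨hrinj, ?_⟩
    rw [Fintype.card_subtype_compl, Fintype.card_fin, Fintype.card_subtype_eq,
      ← Nat.card_eq_fintype_card, hF]
    norm_num
  have hbnb : b ∈ nb D (y i) := ⟨hb, fun e => hab (e ▸ (hya i).2.2), hi.symm⟩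
  obtain ⟨W, hW0, hWp⟩ := exists_vec Q hbnb
  have hx : uh σ A W ≠ 0 := fun e => hab ((hA.comm Q hW hWp).2 e)
  obtain ⟨j, hj⟩ := hrbij.2 (-(uh σ (B j₀) W) * (uh σ A W)⁻¹)
  have key : ∀ k, Commute b (y k.1) ↔ lam k * (mu k)⁻¹ = -(uh σ (B j₀) W) * (uh σ A W)⁻¹ := fun k => by
    rw [Commute.symm_iff, (hB k).comm Q hW hWp, hco k, uh_add_left, uh_smul_left, uh_smul_left]
    have := hmu k
    constructor <;> intro e
    · field_simp
      linear_combination e
    · field_simp at e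
      linear_combination e
  exact ⟨j.1, j.2, fun k hk => (key ⟨k, hk⟩).trans
    ⟨fun e => congrArg Subtype.val (hrinj (e.trans hj.symm)), fun e => by subst e; exact hj⟩⟩

end CfsgLib.KnownB.TypeM22.Unique
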