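import Cfsg.Agent.Lib.KnownB.Fi22Mult.Moves

/-!
Word identities of the Coxeter group of the diagram `Y₃₃₂`, each by a list of moves.
-/

set_option autoImplicit false
set_option maxRecDepth 100000

namespace CfsgLib.KnownB.TypeM22.Unique

open CfsgLib.KnownB.Fi22Mult (reducesTo)

/-- the conjugate of a word -/
def conjW (w x : List ℕ) : List ℕ := w ++ x ++ w.reverse

/-- the third power of a product of two words -/
def cube (x y : List ℕ) : List ℕ := x ++ y ++ (x ++ y ++ (x ++ y))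

/-- the symmetry of the diagram -/
def swap (i : ℕ) : ℕ := if i < 7 then 6 - i else i

/-- the word carrying the last letter to the root outside the chain -/
def wBeta : List ℕ := [7, 3, 4, 2, 3, 7]

/-- the root outside the chain -/
def beta : List ℕ := conjW wBeta [8]

/-- the word carrying the last letter to the highest root of the subdiagram -/
def wTee : List ℕ := [2, 3, 4, 5, 7, 3, 4, 2, 3, 7]

/-- the highest root of the subdiagram -/
def tee : List ℕ := conjW wTee [8]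

/-- the letters of the cycle of six, nine standing for the root outside the chain -/
def wordSix : List ℕ := [3, 4, 5, 9, 1, 9, 5, 4, 3, 2, 3, 4, 5, 9, 1, 2, 1, 9, 5, 4, 9, 1, 2, 3, 4, 3, 2, 1, 9, 5, 9, 1, 2, 3, 4, 5, 4, 3, 2, 1]

/-- expansion of nine -/
def expand (w : List ℕ) : List ℕ := w.flatMap fun x => if Nat.beq x 9 then beta else [x]

/-- a translation -/
def wOne : List ℕ := [1, 2]

/-- a translation -/
def wTwo : List ℕ := [8, 3, 7, 2, 3, 1, 2]

/-- a translation -/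
def wThree : List ℕ := [8, 7, 2, 3, 1, 2]

/-- a translation; it carries the second letter to the sixth -/
def wFour : List ℕ := [4, 5, 3, 4, 2, 3, 1, 2]

/-- the word of the first root -/
def uOne : List ℕ := [1, 2, 3, 4, 5, 7, 3, 2, 1, 4, 3, 2, 7, 3, 4, 5]

/-- the word of the second root -/
def uTwo : List ℕ := [8, 7, 3, 2, 4, 3, 5, 4, 7, 3, 2, 8, 7, 3, 4, 5]

/-- an element of the parabolic subgroup fixing the seventh letter -/
def par : List ℕ := [1, 2, 3, 7, 8, 4, 3, 7, 2, 3, 4, 1, 2, 3, 7, 8]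

/-- the word of the root of the central star -/
def wFourth : List ℕ := [3, 7, 4, 3]

/-- the word of the highest root -/
def wHigh : List ℕ := [5, 6, 4, 5, 3, 7, 4, 3]

/-- the spider word -/
def spiderW : List ℕ := (List.replicate 10 [3, 2, 1, 3, 4, 5, 3, 7, 8]).flatten

/-- the word of the long element -/
def wordSeven : List ℕ := (List.replicate 9 [1, 2, 3, 4, 5, 6, 7]).flatten

/-- the word of the other long element -/
def wordAlt : List ℕ := (List.replicate 9 [0, 1, 2, 3, 4, 5, 7]).flatten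

/-- the product of six orthogonal roots -/
def wordProd : List ℕ := [2, 7, 4] ++ (conjW wFourth [2] ++ ([6] ++ conjW wHigh [2]))

/-- a pair of adjacent letters and a word -/
def pairB : List ℕ × ℕ × ℕ := ([7, 8, 3, 7, 4, 3], 1, 2)

/-- a pair of adjacent letters and a word -/
def pairF : List ℕ × ℕ × ℕ := ([7, 8, 3, 7, 2, 3], 5, 4)

def mv_beta_zero0 : List (ℕ × ℕ) := [(12,0), (13,2), (11,0), (12,2), (10,0), (11,2), (9,0), (10,2), (8,0), (9,2), (7,0), (8,2), (6,0), (7,2), (5,0), (6,2), (4,0), (5,2), (3,0), (4,2), (2,0), (3,2), (1,0), (2,2), (0,0), (1,2), (0,2)]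

theorem beta_zero : reducesTo (mv_beta_zero0) ((beta ++ [0]) ++ ([0] ++ beta).reverse) 14 = true := by
  decide +kernel

def mv_beta_two0 : List (ℕ × ℕ) := [(12,0), (13,2), (9,0), (10,1), (12,2), (8,1), (10,0), (11,2), (10,2), (9,2), (7,0), (8,2), (6,0), (7,2), (5,0), (6,2), (2,0), (3,1), (5,2), (1,1), (3,0), (4,2), (3,2), (2,2), (0,0), (1,2), (0,2)]

theorem beta_two : reducesTo (mv_beta_two0) ((beta ++ [2]) ++ ([2] ++ beta).reverse) 14 = true := by
  decide +kernel

def mv_beta_three0 : List (ℕ × ℕ) := [(11,1), (13,2), (12,2), (10,0), (11,2), (9,0), (10,2), (7,1), (9,2), (8,2), (6,0), (7,2), (4,1), (6,2), (5,2), (3,0), (4,2), (2,0), (3,2), (0,1), (2,2), (1,2), (0,2)]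

theorem beta_three : reducesTo (mv_beta_three0) ((beta ++ [3]) ++ ([3] ++ beta).reverse) 14 = true := by
  decide +kernel

def mv_beta_four0 : List (ℕ × ℕ) := [(12,0), (13,2), (10,1), (12,2), (11,2), (8,1), (10,2), (9,2), (7,0), (8,2), (6,0), (7,2), (5,0), (6,2), (3,1), (5,2), (4,2), (1,1), (3,2), (2,2), (0,0), (1,2), (0,2)]

theorem beta_four : reducesTo (mv_beta_four0) ((beta ++ [4]) ++ ([4] ++ beta).reverse) 14 = true := by
  decide +kernel

def mv_beta_eight0 : List (ℕ × ℕ) := [(5,1), (7,0), (8,0), (9,0), (10,0), (11,1), (13,2), (4,0), (5,1), (7,0), (8,0), (9,1), (11,0), (12,2), (3,0), (4,0), (5,1), (7,1), (9,0), (10,0), (11,2), (6,0), (2,0), (3,0), (4,1), (6,1), (8,0), (9,0), (10,2), (1,0), (2,1), (4,0), (5,0), (6,1), (8,0), (9,2), (0,1), (2,0), (3,0), (4,0), (5,0), (6,1), (8,2), (7,2), (6,2), (5,2), (4,2), (3,2), (2,2), (1,2), (0,2)]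

theorem beta_eight : reducesTo (mv_beta_eight0) ((beta ++ [8]) ++ ([8] ++ beta).reverse) 14 = true := by
  decide +kernel

def mv_pair_b_fst0 : List (ℕ × ℕ) := [(5,0), (6,2), (4,0), (5,2), (3,0), (4,2), (2,0), (3,2), (1,0), (2,2), (0,0), (1,2), (0,2)]

theorem pair_b_fst : reducesTo (mv_pair_b_fst0) ((conjW pairB.1 [pairB.2.1]) ++ ([1]).reverse) 7 = true := by
  decide +kernel

def mv_pair_b_snd0 : List (ℕ × ℕ) := [(12,2), (10,0), (11,2), (8,0), (9,0), (10,2), (5,1), (7,0), (8,0), (9,2), (3,0), (4,0), (5,1), (7,0), (8,2), (1,0), (2,0), (3,0), (4,0), (5,1), (7,2), (6,2), (5,2), (4,2), (3,2), (2,2), (1,2), (0,2)]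

theorem pair_b_snd : reducesTo (mv_pair_b_snd0) ((conjW pairB.1 [pairB.2.2]) ++ (beta).reverse) 13 = true := by
  decide +kernel

def mv_pair_f_fst0 : List (ℕ × ℕ) := [(5,0), (6,2), (4,0), (5,2), (3,0), (4,2), (2,0), (3,2), (1,0), (2,2), (0,0), (1,2), (0,2)]

theorem pair_f_fst : reducesTo (mv_pair_f_fst0) ((conjW pairF.1 [pairF.2.1]) ++ ([5]).reverse) 7 = true := by
  decide +kernel

def mv_pair_f_snd0 : List (ℕ × ℕ) := [(12,2), (10,0), (11,2), (5,1), (7,0), (8,0), (9,0), (10,2), (7,0), (8,0), (9,2), (3,0), (4,0), (5,1), (7,0), (8,2), (1,0), (2,0), (3,0), (4,0), (5,1), (7,2), (6,2), (5,2), (4,2), (2,0), (3,2), (2,2), (1,2), (0,2)]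

theorem pair_f_snd : reducesTo (mv_pair_f_snd0) ((conjW pairF.1 [pairF.2.2]) ++ (beta).reverse) 13 = true := by
  decide +kernel

def mv_spider0 : List (ℕ × ℕ) := [(89,2), (87,1), (89,2), (88,1), (83,0), (84,0), (85,0), (86,0), (81,1), (83,0), (84,0), (85,0), (86,1), (88,0), (89,1), (91,2), (90,2), (89,2), (88,0), (89,2), (86,1), (88,2), (85,0), (86,0), (87,2), (80,0), (81,0), (82,0), (83,0), (84,0), (85,0), (86,0), (87,2), (86,0), (87,2), (85,0), (86,0), (84,0), (85,0), (86,1), (88,0), (89,2), (89,2), (88,2), (77,0), (78,0), (79,0), (80,0), (81,1), (83,0), (84,0), (85,0), (86,0), (87,2), (82,0), (83,0), (84,0), (85,0), (86,2), (83,0), (84,0), (85,2), (81,0), (82,0), (83,0), (80,0), (81,0), (79,0), (74,0), (75,0), (76,0), (77,0), (78,0), (79,1), (81,1), (83,1), (85,2), (82,0), (74,1), (76,0), (77,0), (78,0), (79,0), (80,1), (82,1), (84,2), (83,2), (71,0), (72,0), (73,0), (74,0), (75,1), (77,0), (78,0), (69,1), (71,0), (72,0), (73,1), (75,0),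 (71,0), (59,0), (60,0), (61,0), (62,0), (63,0), (64,0), (65,0), (66,1), (68,0), (69,1), (71,1), (73,0), (74,0), (75,1), (77,0), (78,1), (80,0), (81,0), (82,2), (74,0), (75,0), (76,0), (72,1), (74,0), (75,0), (76,1), (78,0), (79,0), (80,0), (81,2), (71,0), (72,1), (74,0), (75,0), (76,1), (78,0), (79,0), (80,2), (70,0), (68,1), (70,1), (72,0), (73,0), (74,0), (75,0), (76,1), (78,1), (80,2), (77,0), (64,0), (65,0), (66,0), (67,0), (68,0), (69,0), (70,0), (71,1), (73,0), (74,0), (75,1), (77,1), (79,2), (78,2), (62,1), (64,0), (65,0), (57,1), (59,0), (60,0), (61,0), (62,1), (64,0), (65,1), (67,0), (68,0), (69,1), (71,0), (72,0), (73,1), (75,0), (76,0), (77,2), (64,0), (65,0), (66,0), (63,0), (61,1), (63,1), (65,0), (66,1), (68,0), (69,0), (70,0), (71,0), (72,0), (73,0), (74,0), (75,1), (77,2), (74,0), (75,0), (53,0), (54,0), (55,0), (56,0), (57,0), (58,1), (51,1), (53,0), (54,0), (55,0), (56,1), (58,0), (59,1), (61,0), (62,0), (63,1), (65,0), (66,1),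 (68,0), (69,0), (70,0), (71,0), (72,1), (74,0), (75,1), (77,2), (69,0), (70,0), (71,0), (72,0), (73,0), (68,0), (69,0), (67,0), (64,0), (65,0), (57,1), (59,0), (60,0), (61,0), (62,0), (63,0), (64,0), (65,1), (67,1), (69,1), (71,0), (72,0), (73,1)]

def mv_spider1 : List (ℕ × ℕ) := [(75,0), (64,0), (65,0), (62,0), (56,0), (57,1), (59,0), (60,0), (61,0), (62,1), (64,0), (65,1), (67,0), (68,0), (69,1), (71,0), (72,0), (73,1), (75,1), (77,2), (74,0), (72,1), (74,1), (76,2), (75,2), (67,0), (59,0), (60,0), (55,0), (56,0), (57,1), (59,0), (60,1), (62,0), (63,0), (64,0), (65,1), (67,1), (69,0), (70,0), (71,0), (72,0), (73,1), (75,2), (75,2), (73,1), (75,2), (74,1), (72,0), (71,0), (72,1), (74,0), (75,1), (77,2), (76,2), (75,2), (74,0), (75,2), (72,1), (74,2), (71,0), (72,0), (73,2), (63,0), (64,0), (65,0), (62,0), (50,0), (51,0), (52,0), (53,0), (54,0), (55,0), (56,0), (57,1), (59,0), (60,1), (62,1), (64,0), (65,1), (67,0), (68,0), (69,0), (70,0),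 (71,0), (72,0), (73,2), (72,0), (73,2), (71,0), (72,0), (70,0), (71,0), (72,1), (74,0), (75,2), (75,2), (74,2), (58,0), (59,0), (57,0), (47,0), (48,0), (49,0), (50,0), (51,1), (53,0), (54,0), (55,1), (57,1), (59,1), (61,0), (62,0), (63,0), (64,0), (65,0), (66,0), (67,1), (69,0), (70,0), (71,0), (72,0), (73,2), (68,0), (69,0), (70,0), (71,0), (72,2), (69,0), (70,0), (71,2), (67,0), (68,0), (69,0), (66,0), (67,0), (63,0), (64,0), (65,0), (52,0), (53,0), (54,0), (51,0), (52,0), (50,0), (44,0), (45,0), (46,0), (47,0), (48,1), (50,1), (52,1), (54,1), (56,0), (57,0), (58,0), (59,0), (60,0), (61,0), (62,0), (63,0), (64,0), (65,1), (67,1), (69,1), (71,2), (68,0), (59,0), (57,0), (51,0), (44,1), (46,0), (47,0), (48,0), (49,1), (51,1), (53,0), (54,0), (55,0), (56,0), (57,1), (59,1), (61,0), (62,0), (63,0), (64,0), (65,0), (66,1), (68,1), (70,2), (69,2), (61,1), (63,0), (64,0), (58,0), (59,1), (61,0), (54,0), (55,0), (52,0), (46,0), (47,0), (43,0), (44,1),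 (46,0), (47,1), (49,0), (50,0), (51,0), (52,1), (54,0), (55,1), (57,0), (41,0), (42,0), (43,0), (44,0), (45,0), (39,1), (41,0), (29,0), (30,0), (31,0), (32,0), (33,0), (34,0), (35,0), (36,1), (38,0), (39,1), (41,1), (43,0), (44,0), (45,1), (47,0), (48,0), (49,0), (50,0), (51,0), (52,1), (54,0), (55,1), (57,1), (59,0), (60,0), (61,1), (63,0), (64,1), (66,0), (67,0)]

def mv_spider2 : List (ℕ × ℕ) := [(68,2), (60,0), (61,0), (62,0), (58,1), (60,0), (61,0), (62,1), (64,0), (65,0), (66,0), (67,2), (57,0), (58,1), (60,0), (61,0), (62,1), (64,0), (65,0), (66,2), (56,0), (49,0), (40,0), (38,1), (40,1), (42,0), (43,0), (44,0), (45,0), (46,1), (48,0), (49,1), (51,0), (52,0), (53,0), (54,1), (56,1), (58,0), (59,0), (60,0), (61,0), (62,1), (64,1), (66,2), (63,0), (48,0), (49,0), (50,0), (51,0), (47,0), (34,0), (35,0), (36,0), (37,0), (38,0), (39,0), (40,0), (41,1), (43,0), (44,0), (45,1), (47,1), (49,0), (50,0), (51,1), (53,0), (54,0), (55,0), (56,0),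 (57,1), (59,0), (60,0), (61,1), (63,1), (65,2), (64,2), (32,1), (34,0), (35,0), (27,1), (29,0), (30,0), (31,0), (32,1), (34,0), (35,1), (37,0), (38,0), (39,1), (41,0), (42,0), (43,1), (45,0), (46,0), (47,1), (49,0), (50,0), (51,1), (53,0), (54,0), (55,1), (57,0), (58,0), (59,1), (61,0), (62,0), (63,2), (49,0), (50,0), (51,0), (52,0), (48,0), (49,0), (47,0), (34,0), (35,0), (36,0), (33,0), (31,1), (33,1), (35,0), (36,1), (38,0), (39,0), (40,0), (41,0), (42,0), (43,0), (44,0), (45,1), (47,1), (49,1), (51,0), (52,1), (54,0), (55,0), (56,0), (57,0), (58,0), (59,0), (60,0), (61,1), (63,2), (60,0), (61,0), (44,0), (45,0), (23,0), (24,0), (25,0), (26,0), (27,0), (28,1), (21,1), (23,0), (24,0), (25,0), (26,1), (28,0), (29,1), (31,0), (32,0), (33,1), (35,0), (36,1), (38,0), (39,0), (40,0), (41,0), (42,1), (44,0), (45,1), (47,0), (48,0), (49,1), (51,0), (52,1), (54,0), (55,0), (56,0), (57,0), (58,1), (60,0), (61,1), (63,2), (55,0), (56,0), (57,0), (58,0),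 (59,0), (54,0), (55,0), (53,0), (50,0), (51,0), (39,0), (40,0), (41,0), (42,0), (43,0), (38,0), (39,0), (37,0), (34,0), (35,0), (27,1), (29,0), (30,0), (31,0), (32,0), (33,0), (34,0), (35,1), (37,1), (39,1), (41,0), (42,0), (43,1), (45,0), (46,0), (47,0), (48,0), (49,0), (50,0), (51,1), (53,1), (55,1), (57,0), (58,0), (59,1), (61,0), (50,0), (51,0), (48,0), (34,0), (35,0), (32,0), (26,0), (27,1), (29,0), (30,0), (31,0), (32,1), (34,0), (35,1), (37,0), (38,0), (39,1), (41,0), (42,0)]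

def mv_spider3 : List (ℕ × ℕ) := [(43,1), (45,0), (46,0), (47,0), (48,1), (50,0), (51,1), (53,0), (54,0), (55,1), (57,0), (58,0), (59,1), (61,1), (63,2), (60,0), (58,1), (60,1), (62,2), (61,2), (53,0), (45,0), (46,0), (37,0), (29,0), (30,0), (25,0), (26,0), (27,1), (29,0), (30,1), (32,0), (33,0), (34,0), (35,1), (37,1), (39,0), (40,0), (41,0), (42,0), (43,1), (45,0), (46,1), (48,0), (49,0), (50,0), (51,1), (53,1), (55,0), (56,0), (57,0), (58,0), (59,1), (61,2), (61,2), (59,1), (61,2), (60,1), (58,0), (57,0), (58,1), (60,0), (61,1), (63,2), (62,2), (61,2), (60,0), (61,2), (58,1), (60,2), (57,0), (58,0), (59,2), (49,0), (50,0), (51,0), (48,0), (33,0), (34,0), (35,0), (32,0), (20,0), (21,0), (22,0), (23,0), (24,0), (25,0), (26,0), (27,1), (29,0), (30,1), (32,1), (34,0), (35,1), (37,0), (38,0), (39,0), (40,0), (41,0), (42,0), (43,1), (45,0), (46,1), (48,1), (50,0), (51,1), (53,0), (54,0), (55,0), (56,0), (57,0), (58,0), (59,2), (58,0), (59,2),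 (57,0), (58,0), (56,0), (57,0), (58,1), (60,0), (61,2), (61,2), (60,2), (44,0), (45,0), (43,0), (28,0), (29,0), (27,0), (17,0), (18,0), (19,0), (20,0), (21,1), (23,0), (24,0), (25,1), (27,1), (29,1), (31,0), (32,0), (33,0), (34,0), (35,0), (36,0), (37,1), (39,0), (40,0), (41,1), (43,1), (45,1), (47,0), (48,0), (49,0), (50,0), (51,0), (52,0), (53,1), (55,0), (56,0), (57,0), (58,0), (59,2), (54,0), (55,0), (56,0), (57,0), (58,2), (55,0), (56,0), (57,2), (53,0), (54,0), (55,0), (52,0), (53,0), (49,0), (50,0), (51,0), (38,0), (39,0), (40,0), (37,0), (38,0), (36,0), (33,0), (34,0), (22,0), (23,0), (24,0), (21,0), (22,0), (20,0), (14,0), (15,0), (16,0), (17,0), (18,1), (20,1), (22,1), (24,1), (26,0), (27,0), (28,0), (29,0), (30,0), (31,0), (32,0), (33,0), (34,1), (36,1), (38,1), (40,1), (42,0), (43,0), (44,0), (45,0), (46,0), (47,0), (48,0), (49,0), (50,0), (51,1), (53,1), (55,1), (57,2), (54,0), (45,0), (43,0), (37,0), (29,0), (27,0), (21,0), (14,1),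 (16,0), (17,0), (18,0), (19,1), (21,1), (23,0), (24,0), (25,0), (26,0), (27,1), (29,1), (31,0), (32,0), (33,0), (34,0)]

def mv_spider4 : List (ℕ × ℕ) := [(35,1), (37,1), (39,0), (40,0), (41,0), (42,0), (43,1), (45,1), (47,0), (48,0), (49,0), (50,0), (51,0), (52,1), (54,1), (56,2), (55,2), (49,0), (50,0), (51,0), (52,0), (53,0), (48,0), (49,0), (46,0), (40,0), (41,0), (38,0), (32,0), (33,0), (30,0), (24,0), (25,0), (22,0), (16,0), (17,0), (13,0), (14,1), (16,0), (17,1), (19,0), (20,0), (21,0), (22,1), (24,0), (25,1), (27,0), (28,0), (29,0), (30,1), (32,0), (33,1), (35,0), (36,0), (37,0), (38,1), (40,0), (41,1), (43,0), (44,0), (45,0), (46,1), (48,0), (49,1), (51,0), (52,0), (53,1), (55,2), (54,2), (52,0), (44,0), (36,0), (28,0), (20,0), (12,1), (14,0), (15,0), (16,0), (17,1), (19,0), (20,1), (22,0), (23,0), (24,0), (25,1), (27,0), (28,1), (30,0), (31,0), (32,0), (33,1), (35,0), (36,1), (38,0), (39,0), (40,0), (41,1), (43,0), (44,1), (46,0),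 (47,0), (48,0), (49,1), (51,0), (52,1), (54,2), (50,0), (51,0), (49,0), (35,0), (36,0), (37,0), (38,0), (34,0), (19,0), (20,0), (21,0), (22,0), (18,0), (5,0), (6,0), (7,0), (8,0), (9,0), (10,0), (11,0), (12,0), (13,1), (15,0), (16,1), (18,1), (20,0), (21,0), (22,1), (24,0), (25,0), (26,0), (27,0), (28,0), (29,1), (31,0), (32,1), (34,1), (36,0), (37,0), (38,1), (40,0), (41,0), (42,0), (43,0), (44,0), (45,1), (47,0), (48,0), (49,1), (51,1), (53,2), (52,2), (51,0), (37,0), (38,0), (39,0), (40,0), (41,0), (36,0), (37,0), (35,0), (21,0), (22,0), (23,0), (24,0), (25,0), (20,0), (21,0), (19,0), (7,0), (8,0), (9,0), (5,1), (7,0), (8,0), (9,1), (11,0), (12,0), (13,0), (14,0), (15,0), (16,0), (17,1), (19,1), (21,1), (23,0), (24,0), (25,1), (27,0), (28,0), (29,0), (30,0), (31,0), (32,0), (33,1), (35,1), (37,1), (39,0), (40,0), (41,1), (43,0), (44,0), (45,0), (46,0), (47,0), (48,0), (49,0), (50,0), (51,1), (53,2), (54,2), (45,0), (46,0), (47,0), (44,0),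 (45,0), (29,0), (30,0), (28,0), (13,0), (14,0), (12,0), (2,0), (3,0), (4,0), (5,0), (6,1), (8,0), (9,0), (10,1), (12,1), (14,1), (16,0), (17,0), (18,0), (19,0), (20,0), (21,0), (22,1), (24,0), (25,0), (26,1), (28,1), (30,1)]

def mv_spider5 : List (ℕ × ℕ) := [(32,0), (33,0), (34,0), (35,0), (36,0), (37,0), (38,1), (40,0), (41,0), (42,1), (44,0), (45,1), (47,1), (49,0), (50,0), (51,0), (52,0), (53,2), (52,2), (48,0), (49,0), (50,0), (51,2), (48,0), (49,0), (50,2), (46,0), (31,0), (32,0), (29,0), (15,0), (16,0), (13,0), (0,1), (2,0), (3,0), (4,1), (6,0), (7,0), (8,1), (10,0), (11,0), (12,0), (13,1), (15,0), (16,1), (18,0), (19,0), (20,1), (22,0), (23,0), (24,1), (26,0), (27,0), (28,0), (29,1), (31,0), (32,1), (34,0), (35,0), (36,1), (38,0), (39,0), (40,1), (42,0), (43,0), (44,0), (45,0), (46,1), (48,0), (49,2), (43,0), (44,0), (45,0), (46,0), (47,0), (48,2), (44,0), (45,0), (46,0), (47,2), (47,2), (46,0), (44,1), (46,1), (48,2), (47,0), (45,0),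 (42,0), (43,0), (44,0), (45,1), (47,1), (49,2), (42,0), (43,0), (40,1), (42,0), (43,1), (45,0), (46,0), (47,1), (49,2), (45,0), (39,0), (40,1), (42,0), (43,1), (45,1), (47,0), (48,2), (38,0), (39,0), (40,0), (41,0), (42,0), (43,0), (36,1), (38,0), (39,0), (40,0), (35,0), (36,1), (38,0), (34,0), (32,1), (34,1), (36,0), (37,0), (38,1), (40,1), (42,0), (43,1), (45,0), (46,0), (47,2), (46,0), (44,1), (46,1), (48,2), (42,0), (41,0), (42,1), (44,0), (45,0), (46,1), (48,2), (44,0), (39,0), (40,0), (41,0), (42,1), (44,1), (46,0), (47,2), (37,0), (38,0), (39,0), (35,1), (37,0), (38,0), (39,1), (41,0), (42,0), (43,0), (44,0), (45,1), (47,2), (33,0), (34,0), (35,1), (37,0), (38,0), (39,1), (41,0), (42,0), (43,1), (45,0), (46,2), (41,0), (28,0), (29,0), (30,0), (31,0), (32,0), (33,0), (34,0), (35,1), (37,0), (38,0), (39,1), (41,1), (43,0), (44,0), (45,2), (46,2), (45,2), (30,0), (28,1), (30,1), (32,0), (33,0), (34,0), (35,0), (36,0), (37,0), (38,0), (39,0),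 (31,0), (29,0), (26,0), (27,0), (28,0), (29,1), (31,1), (33,0), (34,0), (35,0), (36,0), (26,0), (27,0), (24,1), (26,0), (27,1), (29,0), (30,0), (31,1), (33,0), (34,0), (29,0), (23,0), (24,1), (26,0), (27,1), (29,1), (31,0), (32,0), (22,0), (23,0), (24,0), (25,0), (26,0), (27,0), (20,1), (22,0), (23,0), (24,0), (19,0), (20,1), (22,0)]

def mv_spider6 : List (ℕ × ℕ) := [(18,0), (16,1), (18,1), (20,0), (21,0), (22,1), (24,1), (26,0), (27,1), (29,0), (30,0), (31,0), (32,1), (34,1), (36,1), (38,0), (39,1), (41,0), (42,0), (43,0), (44,2), (45,2), (44,2), (43,0), (44,0), (42,0), (40,1), (42,1), (44,1), (46,2), (45,0), (43,0), (38,0), (37,0), (38,1), (40,0), (41,0), (42,0), (43,1), (45,1), (47,2), (40,0), (41,0), (35,0), (36,0), (37,0), (38,1), (40,0), (41,1), (43,0), (44,0), (45,1), (47,2), (43,0), (33,0), (34,0), (35,0), (36,0), (37,0), (38,1), (40,0), (41,1), (43,1), (45,0), (46,2), (31,0), (32,0), (33,0), (34,0), (30,0), (28,1), (30,1), (32,0),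 (33,0), (34,1), (36,0), (37,0), (38,0), (39,0), (40,0), (41,0), (26,0), (25,0), (26,1), (28,0), (29,0), (30,1), (32,0), (33,0), (34,1), (36,0), (37,0), (38,0), (28,0), (23,0), (24,0), (25,0), (26,1), (28,1), (30,0), (31,0), (32,0), (33,0), (34,1), (36,0), (21,0), (22,0), (23,0), (19,1), (21,0), (22,0), (23,1), (25,0), (26,0), (27,0), (28,0), (29,1), (31,0), (32,0), (17,0), (18,0), (19,1), (21,0), (22,0), (23,1), (25,0), (26,0), (27,1), (29,0), (30,0), (25,0), (12,0), (13,0), (14,0), (15,0), (16,0), (17,0), (18,0), (19,1), (21,0), (22,0), (23,1), (25,1), (27,0), (28,0), (14,0), (12,1), (14,1), (16,0), (17,0), (18,0), (19,0), (20,0), (21,0), (22,0), (23,0), (15,0), (13,0), (10,0), (11,0), (12,0), (13,1), (15,1), (17,0), (18,0), (19,0), (20,0), (10,0), (11,0), (8,1), (10,0), (11,1), (13,0), (14,0), (15,1), (17,0), (18,0), (13,0), (7,0), (8,1), (10,0), (11,1), (13,1), (15,0), (16,0), (6,0), (7,0), (8,0), (9,0), (10,0), (11,0), (4,1), (6,0), (7,0),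 (8,0), (3,0), (4,1), (6,0), (2,0), (0,1), (2,1), (4,0), (5,0), (6,1), (8,1), (10,0), (11,1), (13,0), (14,0), (15,0), (16,1), (18,1), (20,1), (22,0), (23,1), (25,0), (26,0), (27,0), (28,1), (30,1), (32,1), (34,0), (35,0), (36,1), (38,1), (40,0), (41,1), (43,0), (44,0), (45,2), (44,0), (42,1), (44,1), (46,2), (40,0), (39,0), (40,1), (42,0), (43,0), (44,1), (46,2), (42,0), (37,0), (38,0), (39,0), (40,1), (42,1), (44,0), (45,2), (35,0)]

def mv_spider7 : List (ℕ × ℕ) := [(36,0), (37,0), (33,1), (35,0), (36,0), (37,1), (39,0), (40,0), (41,0), (42,0), (43,1), (45,2), (31,0), (32,0), (33,1), (35,0), (36,0), (37,1), (39,0), (40,0), (41,1), (43,0), (44,2), (39,0), (29,0), (30,0), (31,0), (32,0), (33,1), (35,0), (36,0), (37,1), (39,1), (41,0), (42,0), (43,2), (44,2), (43,2), (45,2), (44,2), (42,0), (43,0), (44,0), (41,0), (42,0), (40,0), (27,0), (28,0), (26,0), (24,1), (26,1), (28,1), (30,0), (31,0), (32,0), (33,0), (34,0), (35,0), (36,0), (37,0), (38,1),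 (40,1), (42,1), (44,1), (46,2), (45,0), (43,0), (37,0), (38,0), (29,0), (27,0), (22,0), (21,0), (22,1), (24,0), (25,0), (26,0), (27,1), (29,1), (31,0), (32,0), (33,0), (34,0), (35,1), (37,0), (38,1), (40,0), (41,0), (42,0), (43,1), (45,1), (47,2), (40,0), (41,0), (24,0), (25,0), (19,0), (20,0), (21,0), (22,1), (24,0), (25,1), (27,0), (28,0), (29,1), (31,0), (32,0), (33,1), (35,0), (36,0), (37,0), (38,1), (40,0), (41,1), (43,0), (44,0), (45,1), (47,2), (43,0), (27,0), (17,0), (18,0), (19,0), (20,0), (21,0), (22,1), (24,0), (25,1), (27,1), (29,0), (30,0), (31,1), (33,0), (34,0), (35,0), (36,0), (37,0), (38,1), (40,0), (41,1), (43,1), (45,0), (46,2), (45,0), (46,0), (44,0), (30,0), (31,0), (32,0), (33,0), (34,0), (29,0), (30,0), (28,0), (15,0), (16,0), (17,0), (18,0), (14,0), (12,1), (14,1), (16,0), (17,0), (18,1), (20,0), (21,0), (22,0), (23,0), (24,0), (25,0), (26,1), (28,1), (30,1), (32,0), (33,0), (34,1), (36,0), (37,0), (38,0), (39,0), (40,0),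 (41,0), (42,1), (44,1), (46,1), (48,2), (41,0), (42,0), (25,0), (26,0), (10,0), (9,0), (10,1), (12,0), (13,0), (14,1), (16,0), (17,0), (18,1), (20,0), (21,0), (22,0), (23,1), (25,0), (26,1), (28,0), (29,0), (30,1), (32,0), (33,0), (34,1), (36,0), (37,0), (38,0), (39,1), (41,0), (42,1), (44,0), (45,0), (46,1), (48,2), (44,0), (28,0), (12,0), (7,0), (8,0), (9,0), (10,1), (12,1), (14,0), (15,0), (16,0), (17,0), (18,1), (20,0), (21,1), (23,0), (24,0), (25,0), (26,1), (28,1), (30,0), (31,0), (32,0), (33,0), (34,1), (36,0), (37,1), (39,0), (40,0)]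

def mv_spider8 : List (ℕ × ℕ) := [(41,0), (42,1), (44,1), (46,0), (47,2), (36,0), (37,0), (38,0), (39,0), (35,0), (20,0), (21,0), (22,0), (23,0), (19,0), (5,0), (6,0), (7,0), (3,1), (5,0), (6,0), (7,1), (9,0), (10,0), (11,0), (12,0), (13,1), (15,0), (16,0), (17,1), (19,1), (21,0), (22,0), (23,1), (25,0), (26,0), (27,0), (28,0), (29,1), (31,0), (32,0), (33,1), (35,1), (37,0), (38,0), (39,1), (41,0), (42,0), (43,0), (44,0), (45,1), (47,2), (1,0), (2,0), (3,1), (5,0), (6,0), (7,1), (9,0), (10,0), (11,1), (13,0), (14,0), (15,1), (17,0), (18,0), (19,1), (21,0), (22,0), (23,1), (25,0), (26,0), (27,1), (29,0), (30,0), (31,1), (33,0), (34,0), (35,1), (37,0), (38,0), (39,1), (41,0), (42,0), (43,1), (45,0), (46,2), (46,2), (46,2), (46,1), (48,2), (46,1), (48,2), (45,0), (46,0), (47,0), (44,0), (45,0), (41,0), (42,1), (44,0), (45,1), (47,1), (49,2), (48,2), (46,0), (47,2), (44,0), (45,0), (43,0), (44,0), (45,1), (47,2), (40,1), (42,0), (43,0), (44,0),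 (45,0), (46,2), (39,0), (40,1), (42,0), (43,0), (44,1), (46,0), (47,2), (38,0), (39,0), (40,1), (42,0), (43,0), (44,1), (46,2), (36,1), (38,0), (39,0), (40,0), (41,0), (42,0), (43,0), (44,0), (35,0), (36,1), (38,0), (39,0), (40,0), (41,0), (34,0), (35,0), (36,1), (38,0), (39,0), (33,0), (34,0), (32,0), (30,1), (32,1), (34,1), (36,0), (37,0), (29,0), (30,0), (31,0), (32,0), (28,0), (29,0), (25,0), (26,1), (28,0), (29,1), (31,0), (32,1), (34,0), (35,0), (36,0), (37,1), (39,1), (41,1), (43,0), (44,1), (46,2), (45,2), (43,0), (42,0), (43,1), (45,0), (46,2), (40,0), (41,0), (42,0), (43,1), (45,2), (36,0), (37,0), (38,0), (39,0), (40,0), (35,0), (36,0), (33,1), (35,0), (36,1), (38,0), (39,0), (40,1), (42,0), (43,0), (44,0), (45,2), (44,2), (42,1), (44,0), (45,2), (41,0), (42,1), (44,2), (39,0), (40,0), (41,0), (42,0), (38,0), (39,0), (37,0), (32,0), (33,1), (35,0), (36,0), (37,1), (39,1), (41,0), (42,1), (44,2), (43,2), (41,0), (40,0), (41,1), (43,0),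 (44,2), (38,0), (39,0), (40,0), (41,1), (43,2), (42,0), (34,0), (35,0), (36,0), (37,0), (38,0), (39,0)]

def mv_spider9 : List (ℕ × ℕ) := [(40,0), (41,0), (42,1), (44,2), (30,1), (32,0), (33,0), (34,0), (35,1), (37,0), (38,1), (40,0), (41,0), (42,0), (28,0), (27,0), (28,1), (30,0), (31,0), (32,0), (33,0), (34,0), (35,1), (37,0), (38,1), (31,0), (32,0), (24,1), (26,0), (27,0), (28,0), (29,1), (31,0), (32,1), (34,0), (35,0), (36,0), (23,0), (24,1), (26,0), (27,1), (29,0), (30,0), (31,0), (32,1), (34,0), (21,0), (20,0), (21,1), (23,0), (24,0), (25,0), (26,0), (27,0), (28,1), (30,0), (19,0), (20,0), (21,1), (23,0), (24,0), (25,0), (26,1), (28,0), (23,0), (24,0), (22,0), (17,0), (18,0), (19,0), (20,0), (13,0), (14,0), (15,0), (16,0), (17,0), (18,0), (19,0), (20,1), (22,1), (24,1), (26,0), (27,0), (28,1), (30,1), (32,0), (33,0), (34,1), (36,1), (38,0), (39,1), (41,0), (42,1), (44,2), (43,2), (41,0), (40,0), (41,1), (43,2), (37,1), (39,0), (40,0),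 (41,0), (42,2), (35,0), (36,0), (37,1), (39,0), (40,1), (42,0), (43,2), (38,0), (39,0), (40,1), (42,2), (33,0), (34,0), (31,1), (33,0), (34,1), (36,0), (37,0), (38,0), (39,0), (40,0), (29,0), (30,0), (31,1), (33,0), (34,1), (36,0), (37,0), (35,0), (32,0), (33,0), (17,0), (18,0), (19,0), (20,0), (21,0), (22,0), (16,0), (17,0), (18,0), (19,0), (15,0), (13,1), (15,1), (12,0), (13,0), (9,0), (10,1), (12,0), (13,1), (15,0), (16,1), (18,0), (19,1), (21,0), (22,1), (24,0), (25,0), (26,0), (27,0), (28,0), (29,0), (30,0), (31,0), (32,0), (33,1), (35,1), (37,1), (39,0), (40,1), (42,2), (41,2), (39,0), (38,0), (39,1), (41,0), (42,2), (36,0), (37,0), (38,0), (39,1), (41,2), (32,0), (33,0), (34,1), (36,0), (37,1), (39,0), (40,0), (41,2), (26,0), (24,1), (26,1), (28,0), (29,0), (30,0), (31,0), (32,0), (33,0), (34,0), (35,0), (27,0), (25,0), (21,0), (22,0), (23,0), (24,0), (25,1), (27,1), (29,0), (30,0), (31,0), (28,0), (22,0), (23,0), (20,0), (14,1), (16,0),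 (17,0), (18,0), (19,0), (20,1), (22,0), (23,1), (25,0), (26,0), (27,0), (28,1), (30,0), (31,1), (33,0), (34,0), (35,1), (37,0), (38,0), (39,0), (40,2), (39,2), (37,1), (39,0), (40,2), (36,0), (37,1), (39,2), (34,0), (35,0)]

def mv_spider10 : List (ℕ × ℕ) := [(36,0), (37,0), (33,0), (34,0), (32,0), (19,0), (20,0), (21,0), (13,0), (14,1), (16,0), (17,1), (19,0), (20,0), (21,1), (23,0), (24,0), (25,0), (26,0), (27,0), (28,1), (30,0), (31,0), (32,1), (34,1), (36,0), (37,1), (39,2), (38,2), (36,0), (35,0), (36,1), (38,0), (39,2), (33,0), (34,0), (35,0), (36,1), (38,2), (37,0), (29,0), (30,0), (31,0), (32,0), (33,0), (34,0), (35,0), (36,0), (37,1), (39,2), (38,2), (36,0), (37,2), (28,0), (29,0), (25,0), (26,1), (28,0), (29,1), (31,0), (32,0), (33,0), (34,1), (36,2), (16,0), (17,0), (18,0), (19,0), (20,0), (21,0), (22,0), (23,1), (15,0), (8,1), (10,0), (11,0), (12,0), (13,1), (15,1), (17,0), (18,0), (19,0), (20,0), (21,1), (23,0), (24,1), (26,0),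 (27,0), (28,0), (29,1), (31,0), (32,1), (34,0), (35,2), (34,2), (33,2), (22,1), (24,0), (25,0), (26,0), (27,0), (28,0), (29,1), (31,0), (32,2), (30,0), (31,2), (29,0), (30,2), (18,0), (19,0), (20,0), (21,0), (22,0), (23,0), (24,1), (26,0), (27,1), (29,2), (17,0), (18,0), (16,0), (14,0), (5,0), (6,0), (4,0), (5,0), (6,1), (8,0), (9,0), (10,0), (11,0), (12,0), (13,0), (14,1), (16,1), (18,1), (20,0), (21,0), (22,1), (24,0), (25,1), (27,0), (28,2), (27,2), (26,2), (19,0), (20,1), (22,0), (23,0), (24,0), (25,2), (23,0), (24,2), (22,0), (23,2), (17,0), (18,0), (19,0), (20,1), (22,2), (21,2), (20,2), (17,0), (18,0), (19,2), (9,1), (11,0), (12,0), (13,0), (14,0), (15,0), (16,0), (17,0), (18,2), (17,2), (15,0), (16,2), (8,0), (9,1), (11,0), (12,0), (13,0), (14,0), (15,2), (14,0), (15,0), (11,0), (12,0), (13,0), (7,0), (8,0), (9,1), (11,0), (6,0), (7,0), (8,0), (9,1), (11,1), (13,1), (15,1), (17,2), (16,2), (14,0), (15,2), (12,0), (13,0), (14,2), (10,0),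 (11,0), (12,0), (13,0), (14,0), (15,0), (16,2), (15,2), (14,2), (13,2), (8,1), (10,0), (11,0), (12,2), (5,0), (6,0), (7,0), (8,1), (10,0), (11,2), (4,0), (5,0), (6,0), (7,0), (8,1), (10,2), (9,2), (8,2), (7,2), (6,2), (5,2), (3,0), (4,2), (2,0), (3,2), (2,2), (1,2), (0,2)]

theorem spider : reducesTo (mv_spider0 ++ mv_spider1 ++ mv_spider2 ++ mv_spider3 ++ mv_spider4 ++ mv_spider5 ++ mv_spider6 ++ mv_spider7 ++ mv_spider8 ++ mv_spider9 ++ mv_spider10) ((spiderW) ++ (expand wordSix ++ (cube (conjW wOne [1]) (conjW wOne tee) ++ cube (conjW wTwo tee) (conjW wTwo [1]))).reverse) 227 = true := by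
  decide +kernel

def mv_roots_equal0 : List (ℕ × ℕ) := [(14,1), (16,2), (13,0), (14,1), (16,2), (11,0), (12,0), (13,0), (14,1), (16,2), (8,0), (9,0), (10,0), (11,0), (12,0), (13,0), (14,1), (16,2), (15,2), (14,2), (13,0), (14,2), (12,0), (13,0), (14,2), (11,0), (12,0), (13,0), (14,2), (14,2), (13,0), (14,2), (12,0), (13,0), (14,2), (11,0), (12,0), (13,0), (14,2), (14,2), (13,2), (12,2), (11,2), (10,2), (9,2), (8,2), (7,2), (6,2), (5,2), (15,2), (14,0), (15,2), (13,0), (14,0), (15,2), (12,0), (13,0), (14,0), (15,2), (15,2), (14,0), (15,2), (13,0), (14,0), (15,2), (12,0), (13,0), (14,0), (15,2), (15,1), (17,2), (14,0), (15,1), (17,2), (13,0), (14,0), (15,1), (17,2), (12,0), (13,0), (14,0), (15,1), (17,2), (15,1), (17,2), (14,0), (15,1), (17,2), (13,0), (14,0), (15,1), (17,2), (12,0), (13,0), (14,0), (15,1), (17,2), (37,2), (36,0), (37,2), (35,0), (36,0), (37,2), (34,0), (35,0), (36,0), (37,2), (37,2), (36,0), (37,2), (35,0), (36,0), (37,2),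 (34,0), (35,0), (36,0), (37,2), (37,1), (39,2), (36,0), (37,1), (39,2), (35,0), (36,0), (37,1), (39,2), (34,0), (35,0), (36,0), (37,1), (39,2), (37,1), (39,2), (36,0), (37,1), (39,2), (35,0), (36,0), (37,1), (39,2), (34,0), (35,0), (36,0), (37,1), (39,2), (59,2), (58,0), (59,2), (57,0), (58,0), (59,2), (56,0), (57,0), (58,0), (59,2), (65,2), (63,0), (64,2), (59,0), (60,0), (61,0), (62,0), (63,2), (60,0), (61,0), (62,0), (63,2), (58,0), (57,0), (58,1), (60,0), (61,0), (62,2), (56,0), (57,0), (58,1), (60,0), (61,0), (62,2), (56,0), (57,0), (58,0), (59,0), (60,0), (61,0), (54,1), (56,0), (57,0), (58,0), (59,0), (52,0), (53,0), (54,1), (56,0), (57,0), (52,0), (50,1), (52,1), (54,0), (55,0), (42,0), (43,0), (41,0), (33,0), (34,0), (32,0), (20,0), (21,0), (19,0), (11,0), (12,0), (10,0), (4,0), (5,0), (6,0), (7,0), (8,1), (10,1), (12,1), (14,0), (15,0), (16,0), (17,1), (19,1), (21,1), (23,0), (24,0), (25,0), (26,0), (27,0), (28,0), (29,0), (30,1),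 (32,1), (34,1), (36,0), (37,0), (38,0), (39,1), (41,1), (43,1), (45,0), (46,0), (47,0), (48,0), (49,0), (50,0), (44,0), (42,0), (29,0)]

def mv_roots_equal1 : List (ℕ × ℕ) := [(30,0), (22,0), (20,0), (7,0), (8,0), (3,0), (4,0), (5,1), (7,0), (8,1), (10,0), (11,0), (12,1), (14,0), (15,1), (17,0), (18,0), (19,0), (20,1), (22,1), (24,0), (25,0), (26,0), (27,1), (29,0), (30,1), (32,0), (33,0), (34,1), (36,0), (37,1), (39,0), (40,0), (41,0), (42,1), (44,1), (46,0), (47,0), (39,0), (40,0), (32,0), (17,0), (18,0), (10,0), (2,0), (3,1), (5,0), (6,0), (7,0), (8,1), (10,1), (12,0), (13,0), (14,0), (15,1), (17,0), (18,1), (20,0), (21,0), (22,1), (24,0), (25,1), (27,0), (28,0), (29,0), (30,1), (32,1), (34,0), (35,0), (36,0), (37,1), (39,0), (40,1), (42,0), (43,0), (44,1), (46,0), (47,1), (49,0), (50,1), (52,0), (53,0), (54,0), (55,1), (57,1), (59,1), (61,1), (63,2), (62,2), (60,0), (61,2), (58,0), (59,0), (60,0), (61,2), (56,0), (57,0), (58,0), (59,0),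 (60,0), (61,0), (62,2), (64,2), (54,0), (55,0), (56,0), (57,0), (53,0), (51,1), (53,1), (55,0), (56,0), (57,1), (59,0), (60,0), (61,0), (62,0), (63,2), (62,2), (49,0), (48,0), (49,1), (51,0), (52,0), (53,1), (55,0), (56,0), (57,1), (59,0), (60,0), (61,2), (59,0), (60,2), (55,0), (56,0), (57,0), (58,0), (59,2), (63,1), (65,2), (64,2), (61,1), (63,2), (62,2), (51,0), (42,0), (28,0), (29,0), (30,0), (27,0), (20,0), (6,0), (7,0), (8,0), (5,0), (1,0), (2,0), (3,1), (5,1), (7,0), (8,1), (10,0), (11,0), (12,0), (13,0), (14,0), (15,1), (17,0), (18,1), (20,1), (22,0), (23,0), (24,0), (25,1), (27,1), (29,0), (30,1), (32,0), (33,0), (34,0), (35,0), (36,0), (37,1), (39,0), (40,1), (42,1), (44,0), (45,0), (46,0), (47,0), (48,0), (49,1), (51,1), (53,0), (54,0), (55,0), (56,1), (58,0), (59,1), (61,2), (53,0), (54,0), (52,0), (50,0), (33,1), (35,0), (36,0), (37,0), (38,0), (39,0), (40,0), (32,0), (33,1), (35,0), (36,0), (37,0), (31,0), (32,0), (33,1), (35,0),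 (29,0), (30,0), (31,0), (28,0), (29,0), (26,0), (27,0), (11,1), (13,0), (14,0), (15,0), (16,0), (17,0), (18,0), (10,0), (11,1), (13,0), (14,0), (15,0), (9,0), (10,0), (11,1), (13,0), (7,0), (8,0), (9,0), (6,0), (7,0), (4,0), (5,0)]

def mv_roots_equal2 : List (ℕ × ℕ) := [(0,0), (1,0), (2,0), (3,0), (4,0), (5,1), (7,1), (9,1), (11,0), (12,0), (13,1), (15,1), (17,0), (18,1), (20,0), (21,0), (22,0), (23,0), (24,0), (25,0), (26,0), (27,1), (29,1), (31,1), (33,0), (34,0), (35,1), (37,1), (39,0), (40,1), (42,0), (43,0), (44,0), (45,0), (46,0), (47,0), (48,0), (49,0), (50,1), (52,1), (54,1), (56,0), (57,1), (59,0), (60,2), (65,2), (63,0), (64,2), (56,0), (57,0), (55,0), (44,0), (45,0), (43,0), (44,0), (45,1), (47,0), (48,0), (49,0), (50,0), (51,0), (52,0), (53,1), (55,1), (57,1), (59,0), (60,0), (61,0), (62,0), (63,2), (60,0), (61,0), (62,0), (63,2), (58,0), (52,0), (53,0), (39,0), (40,0), (41,1), (43,0), (44,0), (45,1), (47,0), (48,0), (49,0), (50,1),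 (52,0), (53,1), (55,0), (56,0), (57,0), (58,1), (60,0), (61,0), (62,2), (49,0), (50,0), (51,0), (34,0), (35,0), (36,0), (37,0), (38,0), (39,0), (40,0), (41,1), (43,0), (44,0), (45,1), (47,1), (49,0), (50,0), (51,1), (53,0), (54,0), (55,0), (56,0), (57,0), (58,1), (60,0), (61,0), (62,2), (56,0), (57,0), (58,0), (59,0), (60,0), (61,0), (62,1), (64,2), (54,0), (46,0), (37,0), (38,1), (40,0), (41,0), (42,0), (43,0), (44,1), (46,1), (48,0), (49,0), (50,0), (51,0), (52,1), (54,1), (56,0), (57,0), (58,0), (59,0), (60,1), (62,0), (63,2), (32,1), (34,0), (35,0), (36,0), (37,0), (38,1), (40,0), (41,0), (42,1), (44,0), (45,0), (46,1), (48,0), (49,0), (50,1), (52,0), (53,0), (54,1), (56,0), (57,0), (58,1), (60,0), (61,0), (62,0), (63,2), (52,0), (34,0), (35,0), (36,0), (30,0), (31,0), (32,1), (34,0), (28,0), (29,0), (30,0), (31,0), (32,1), (34,1), (36,1), (38,0), (39,0), (40,1), (42,0), (43,0), (44,0), (45,0), (46,1), (48,0), (49,0), (50,1), (52,1), (54,0),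 (55,0), (56,1), (58,0), (59,0), (60,0), (61,0), (62,0), (63,0), (64,2), (66,2), (65,0), (66,2), (63,0), (64,0), (65,0), (66,2), (60,0), (61,0), (62,0), (63,0), (64,0), (65,2), (64,0), (65,0), (66,2), (63,0), (64,0), (65,0), (66,2), (66,1), (68,2), (65,0), (66,1), (68,2), (69,2), (68,2), (66,1), (68,2), (65,0), (66,1), (68,2), (62,0), (63,0)]

def mv_roots_equal3 : List (ℕ × ℕ) := [(61,0), (59,0), (47,0), (48,0), (49,0), (46,0), (47,0), (45,0), (43,0), (33,0), (31,1), (33,1), (35,0), (36,0), (37,0), (38,0), (39,0), (40,0), (41,0), (42,0), (43,1), (45,1), (47,1), (49,1), (51,0), (52,0), (53,0), (54,0), (55,0), (56,0), (57,0), (58,0), (59,1), (61,1), (63,1), (65,0), (66,0), (67,0), (58,0), (59,0), (50,0), (48,0), (42,0), (43,0), (34,0), (32,0), (29,0), (30,0), (31,0), (32,1), (34,1), (36,0), (37,0), (38,0), (39,0), (40,1), (42,0), (43,1), (45,0), (46,0), (47,0), (48,1), (50,1), (52,0), (53,0), (54,0), (55,0), (56,1), (58,0), (59,1), (61,0), (62,0),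 (63,1), (65,0), (53,0), (54,0), (55,0), (56,0), (57,0), (52,0), (53,0), (51,0), (49,0), (37,0), (38,0), (39,0), (40,0), (41,0), (36,0), (37,0), (35,0), (33,0), (21,1), (23,0), (24,0), (25,0), (26,0), (27,0), (28,0), (29,0), (30,0), (31,0), (32,0), (33,1), (35,1), (37,1), (39,0), (40,0), (41,1), (43,0), (44,0), (45,0), (46,0), (47,0), (48,0), (49,1), (51,1), (53,1), (55,0), (56,0), (57,1), (59,0), (60,0), (61,0), (62,0), (63,1), (65,1), (67,1), (69,2), (68,0), (60,0), (52,0), (44,0), (45,0), (36,0), (28,0), (29,0), (26,1), (28,0), (29,1), (31,0), (32,0), (33,0), (34,1), (36,1), (38,0), (39,0), (40,0), (41,0), (42,1), (44,0), (45,1), (47,0), (48,0), (49,0), (50,1), (52,1), (54,0), (55,0), (56,0), (57,0), (58,1), (60,1), (62,0), (63,0), (47,0), (48,0), (31,0), (32,0), (20,0), (21,1), (23,0), (24,0), (17,0), (18,0), (19,0), (20,0), (21,1), (23,0), (24,1), (26,0), (27,0), (28,0), (29,1), (31,0), (32,1), (34,0), (35,0), (36,1), (38,0), (39,0), (40,1),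 (42,0), (43,0), (44,0), (45,1), (47,0), (48,1), (50,0), (51,0), (52,1), (54,0), (55,0), (56,1), (58,0), (59,0), (60,1), (62,0), (63,1), (65,0), (66,0), (67,0), (68,1), (70,2), (65,0), (66,0), (58,0), (43,0), (44,0), (45,0), (46,0), (42,0), (27,0), (28,0), (29,0), (30,0), (26,0), (12,0), (13,0), (14,0), (15,0), (16,0), (17,0), (18,0), (19,0), (20,0), (21,1), (23,0), (24,1), (26,1), (28,0), (29,0), (30,1), (32,0), (33,0), (34,0), (35,0), (36,1), (38,0), (39,0)]

def mv_roots_equal4 : List (ℕ × ℕ) := [(40,1), (42,1), (44,0), (45,0), (46,1), (48,0), (49,0), (50,0), (51,0), (52,1), (54,0), (55,0), (56,1), (58,1), (60,0), (61,0), (62,0), (63,1), (65,0), (66,1), (68,0), (69,0), (70,2), (68,0), (69,1), (71,0), (53,0), (54,0), (55,0), (52,0), (53,0), (51,0), (49,0), (37,0), (38,0), (39,0), (36,0), (37,0), (35,0), (33,0), (22,0), (23,0), (21,0), (19,1), (21,1), (23,1), (25,0), (26,0), (27,0), (28,0), (29,0), (30,0), (31,0), (32,0), (33,1), (35,1), (37,1),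 (39,1), (41,0), (42,0), (43,0), (44,0), (45,0), (46,0), (47,0), (48,0), (49,1), (51,1), (53,1), (55,1), (57,0), (58,0), (59,0), (60,0), (56,0), (54,0), (48,0), (49,0), (40,0), (38,0), (32,0), (33,0), (24,0), (22,0), (17,0), (15,0), (16,0), (17,1), (19,0), (20,0), (21,0), (22,1), (24,1), (26,0), (27,0), (28,0), (29,0), (30,1), (32,0), (33,1), (35,0), (36,0), (37,0), (38,1), (40,1), (42,0), (43,0), (44,0), (45,0), (46,1), (48,0), (49,1), (51,0), (52,0), (53,0), (54,1), (56,1), (58,0), (59,0), (60,1), (62,0), (63,0), (64,0), (65,0), (66,0), (67,0), (68,0), (69,1), (71,1), (73,2), (66,1), (68,0), (69,0), (51,0), (52,0), (35,0), (36,0), (19,0), (20,0), (10,1), (12,0), (13,0), (14,0), (15,0), (16,0), (17,1), (19,0), (20,1), (22,0), (23,0), (24,1), (26,0), (27,0), (28,1), (30,0), (31,0), (32,0), (33,1), (35,0), (36,1), (38,0), (39,0), (40,1), (42,0), (43,0), (44,1), (46,0), (47,0), (48,0), (49,1), (51,0), (52,1), (54,0), (55,0), (56,1), (58,0), (59,0),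 (60,1), (62,0), (63,0), (64,0), (65,0), (66,1), (68,0), (69,1), (71,0), (72,0), (73,2), (63,0), (62,0), (63,1), (65,0), (66,0), (67,0), (47,0), (48,0), (49,0), (50,0), (46,0), (31,0), (32,0), (33,0), (34,0), (30,0), (15,0), (16,0), (17,0), (18,0), (12,0), (13,0), (14,0), (8,0), (9,0), (10,1), (12,0), (6,0), (7,0), (8,0), (9,0), (10,1), (12,1), (14,1), (16,0), (17,0), (18,1), (20,0), (21,0), (22,0), (23,0), (24,1), (26,0), (27,0), (28,1), (30,1), (32,0), (33,0), (34,1), (36,0), (37,0), (38,0), (39,0), (40,1), (42,0), (43,0), (44,1), (46,1), (48,0), (49,0), (50,1), (52,0)]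

def mv_roots_equal5 : List (ℕ × ℕ) := [(53,0), (54,0), (55,0), (56,1), (58,0), (59,0), (60,1), (62,0), (63,1), (65,0), (66,0), (67,1), (69,0), (70,0), (71,0), (72,0), (73,0), (74,2), (76,2), (75,0), (76,2), (73,0), (74,0), (75,0), (76,2), (66,0), (67,0), (68,0), (65,0), (66,0), (64,0), (62,1), (64,1), (66,1), (68,1), (70,0), (71,0), (72,0), (73,0), (74,0), (75,2), (74,0), (75,0), (76,2), (73,0), (74,0), (75,0), (76,2), (76,1), (78,2), (75,0), (76,1), (78,2), (74,0), (75,0), (76,1), (78,0), (79,2), (72,0), (73,0), (74,0), (71,0), (72,0), (70,0), (57,0), (58,0), (59,0), (56,0), (57,0), (55,0), (49,0), (50,0), (51,0), (52,0), (53,1), (55,1), (57,1), (59,1), (61,0), (62,0), (63,0), (64,0), (65,0), (66,0), (67,0), (68,0), (69,0), (70,1), (72,1), (74,1), (76,0), (77,0), (78,2), (69,0), (70,0), (71,0), (72,0), (73,0), (74,0), (75,1), (77,0), (78,2), (68,0), (69,0), (66,0), (60,0), (61,0), (58,0), (52,0), (53,0), (48,0), (49,0), (50,1), (52,0), (53,1),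 (55,0), (56,0), (57,0), (58,1), (60,0), (61,1), (63,0), (64,0), (65,0), (66,1), (68,0), (69,1), (71,0), (72,0), (73,1), (75,0), (76,0), (77,2), (71,0), (63,0), (64,0), (55,0), (56,0), (47,0), (48,1), (50,0), (51,0), (52,0), (53,1), (55,0), (56,1), (58,0), (59,0), (60,0), (61,1), (63,0), (64,1), (66,0), (67,0), (68,0), (69,1), (71,1), (73,0), (74,0), (75,0), (76,0), (77,2), (74,0), (75,0), (76,0), (73,0), (74,0), (72,0), (70,0), (59,0), (60,0), (61,0), (62,0), (58,0), (46,1), (48,0), (49,0), (50,0), (51,0), (52,0), (53,1), (55,0), (56,1), (58,1), (60,0), (61,0), (62,1), (64,0), (65,0), (66,0), (67,0), (68,0), (69,0), (70,1), (72,1), (74,1), (76,1), (78,2), (77,2), (75,0), (76,2), (73,0), (74,0), (75,0), (76,2), (66,0), (67,0), (65,0), (50,0), (51,0), (52,0), (53,0), (49,0), (45,0), (46,0), (47,1), (49,1), (51,0), (52,0), (53,1), (55,0), (56,0), (57,0), (58,0), (59,1), (61,0), (62,0), (63,1), (65,1), (67,1), (69,0), (70,0), (71,0), (72,0), (73,0),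 (68,0), (69,0), (66,0), (44,0), (45,1), (47,0), (48,0), (49,1), (51,0), (52,0), (53,1), (55,0), (56,0), (57,1), (59,0)]

def mv_roots_equal6 : List (ℕ × ℕ) := [(60,0), (61,1), (63,0), (64,0), (65,0), (66,1), (68,0), (69,1), (71,0), (72,0), (73,1), (75,0), (76,0), (77,2), (76,2), (75,2), (74,0), (75,2), (72,0), (73,0), (74,0), (75,1), (77,2), (71,0), (72,0), (73,1), (75,0), (76,2), (70,0), (71,1), (73,0), (74,0), (75,0), (76,2), (68,0), (69,0), (67,0), (68,0), (69,1), (71,0), (72,0), (73,0), (74,0), (75,0), (76,0), (77,2), (63,0), (64,0), (55,0), (47,0), (43,0), (44,0), (45,1), (47,1), (49,0), (50,0), (51,0), (52,0), (53,1), (55,1), (57,0), (58,0), (59,0), (60,0), (61,1), (63,0), (64,1), (66,0), (67,0), (68,0), (69,0), (70,1), (72,0), (73,1), (75,0), (76,0), (58,0), (59,0), (60,0), (61,0), (62,0), (57,0), (58,0), (56,0), (54,0), (41,0), (42,0), (43,0), (44,0), (45,0), (40,0), (41,0), (42,0), (39,0), (40,0), (38,0), (33,0), (34,0), (35,0), (36,0),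 (37,0), (38,1), (40,1), (42,1), (44,0), (45,1), (47,0), (48,0), (49,0), (50,0), (51,0), (52,0), (53,0), (54,1), (56,1), (58,1), (60,0), (61,0), (62,1), (64,0), (65,0), (66,0), (67,0), (68,0), (69,0), (70,1), (72,0), (73,1), (49,0), (50,0), (51,0), (48,0), (49,0), (47,0), (44,0), (45,0), (37,0), (38,0), (39,0), (40,0), (41,0), (42,0), (43,0), (44,0), (45,1), (47,1), (49,1), (51,1), (53,0), (54,0), (55,0), (56,0), (57,0), (58,0), (59,1), (61,0), (62,0), (63,1), (65,0), (66,0), (67,1), (69,0), (70,0), (71,0), (52,0), (53,0), (50,0), (44,0), (45,0), (42,0), (36,0), (37,0), (32,0), (33,0), (34,1), (36,0), (37,1), (39,0), (40,0), (41,0), (42,1), (44,0), (45,1), (47,0), (48,0), (49,0), (50,1), (52,0), (53,1), (55,0), (56,0), (57,1), (59,0), (60,0), (61,1), (63,0), (64,0), (65,0), (66,0), (67,1), (69,0), (59,0), (60,0), (61,0), (62,1), (64,0), (65,0), (58,0), (59,0), (60,1), (62,0), (63,0), (55,0), (47,0), (48,0), (39,0), (40,0), (31,0), (32,1), (34,0),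 (35,0), (36,0), (37,1), (39,0), (40,1), (42,0), (43,0), (44,0), (45,1), (47,0), (48,1), (50,0), (51,0), (52,0), (53,1), (55,1), (57,0), (58,0), (56,0), (54,0), (43,0), (44,0), (45,0), (46,0), (42,0), (30,1), (32,0), (33,0), (34,0), (35,0)]

def mv_roots_equal7 : List (ℕ × ℕ) := [(36,0), (37,1), (39,0), (40,1), (42,1), (44,0), (45,0), (46,1), (48,0), (49,0), (50,0), (51,0), (52,0), (53,0), (54,1), (56,1), (58,1), (60,0), (61,0), (50,0), (51,0), (49,0), (34,0), (35,0), (36,0), (37,0), (33,0), (29,0), (30,0), (31,1), (33,1), (35,0), (36,0), (37,1), (39,0), (40,0), (41,0), (42,0), (43,1), (45,0), (46,0), (47,1), (49,1), (51,1), (53,0), (54,0), (55,0), (56,0), (52,0), (53,0), (50,0), (28,0), (29,1), (31,0), (32,0), (33,1), (35,0), (36,0), (37,1), (39,0), (40,0), (41,1), (43,0), (44,0), (45,1), (47,0), (48,0), (49,0), (50,1), (52,0), (53,1), (55,0), (56,1), (58,0), (59,0), (60,0), (61,1), (63,1), (65,1), (67,0), (68,0), (69,1), (71,1), (73,0), (74,1),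 (76,1), (78,2), (77,2), (75,0), (76,2), (72,1), (74,0), (75,0), (76,2), (70,0), (71,0), (72,1), (74,0), (75,2), (73,0), (74,0), (75,2), (68,0), (69,0), (66,1), (68,0), (69,1), (71,0), (72,0), (73,0), (74,0), (64,0), (65,0), (66,1), (68,0), (69,1), (71,0), (72,0), (70,0), (67,0), (68,0), (62,0), (63,0), (64,0), (65,0), (66,0), (67,0), (68,1), (70,1), (72,1), (74,1), (76,2), (75,2), (73,0), (74,2), (71,0), (72,0), (73,0), (74,2), (60,0), (61,0), (59,0), (57,1), (59,1), (61,1), (63,0), (64,0), (65,0), (66,0), (67,0), (68,0), (69,0), (70,0), (71,0), (62,0), (60,0), (55,0), (54,0), (55,1), (57,0), (58,0), (59,0), (60,1), (62,1), (64,0), (65,0), (66,0), (67,0), (63,0), (61,0), (52,0), (53,0), (51,0), (52,0), (53,1), (55,0), (56,0), (57,0), (58,0), (59,0), (60,0), (61,1), (63,1), (56,0), (57,0), (47,0), (48,0), (39,0), (31,0), (27,0), (28,0), (29,1), (31,1), (33,0), (34,0), (35,0), (36,0), (37,1), (39,1), (41,0), (42,0), (43,0), (44,0), (45,1), (47,0),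 (48,1), (50,0), (51,0), (52,0), (53,0), (54,1), (56,0), (57,1), (59,0), (60,0), (61,0), (42,0), (43,0), (44,0), (45,0), (46,0), (41,0), (42,0), (40,0), (38,0), (25,0), (26,0), (27,0), (28,0), (29,0), (24,0), (25,0), (26,0), (23,0), (24,0), (22,0), (17,0), (18,0), (19,0), (20,0), (21,0), (22,1), (24,1), (26,1), (28,0), (29,1), (31,0), (32,0), (33,0), (34,0)]

def mv_roots_equal8 : List (ℕ × ℕ) := [(35,0), (36,0), (37,0), (38,1), (40,1), (42,1), (44,0), (45,0), (46,1), (48,0), (49,0), (50,0), (51,0), (52,0), (53,0), (54,1), (56,0), (57,1), (33,0), (34,0), (35,0), (32,0), (33,0), (31,0), (28,0), (29,0), (21,0), (22,0), (23,0), (24,0), (25,0), (26,0), (27,0), (28,0), (29,1), (31,1), (33,1), (35,1), (37,0), (38,0), (39,0), (40,0), (41,0), (42,0), (43,1), (45,0), (46,0), (47,1), (49,0), (50,0), (51,1), (53,0), (54,0), (55,0), (36,0), (37,0), (34,0), (28,0), (29,0), (26,0), (20,0), (21,0), (16,0), (17,0), (18,1), (20,0), (21,1), (23,0), (24,0), (25,0),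 (26,1), (28,0), (29,1), (31,0), (32,0), (33,0), (34,1), (36,0), (37,1), (39,0), (40,0), (41,1), (43,0), (44,0), (45,1), (47,0), (48,0), (49,0), (50,0), (51,1), (53,0), (43,0), (44,0), (45,0), (46,1), (48,0), (49,0), (42,0), (43,0), (44,1), (46,0), (47,0), (39,0), (31,0), (32,0), (23,0), (24,0), (15,0), (16,1), (18,0), (19,0), (20,0), (21,1), (23,0), (24,1), (26,0), (27,0), (28,0), (29,1), (31,0), (32,1), (34,0), (35,0), (36,0), (37,1), (39,1), (41,0), (42,0), (40,0), (38,0), (27,0), (28,0), (29,0), (30,0), (26,0), (14,1), (16,0), (17,0), (18,0), (19,0), (20,0), (21,1), (23,0), (24,1), (26,1), (28,0), (29,0), (30,1), (32,0), (33,0), (34,0), (35,0), (36,0), (37,0), (38,1), (40,1), (42,1), (44,0), (45,0), (34,0), (35,0), (33,0), (18,0), (19,0), (20,0), (21,0), (17,0), (13,0), (14,0), (15,1), (17,1), (19,0), (20,0), (21,1), (23,0), (24,0), (25,0), (26,0), (27,1), (29,0), (30,0), (31,1), (33,1), (35,1), (37,0), (38,0), (39,0), (40,0), (36,0), (37,0),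 (34,0), (12,0), (13,1), (15,0), (16,0), (17,1), (19,0), (20,0), (21,1), (23,0), (24,0), (25,1), (27,0), (28,0), (29,1), (31,0), (32,0), (33,0), (34,1), (36,0), (37,1), (39,0), (40,1), (42,0), (43,0), (44,0), (45,1), (47,1), (49,1), (51,0), (52,0), (53,1), (55,1), (57,0), (58,1), (60,0), (61,1), (63,0), (64,1), (66,0), (67,1), (69,0), (70,0), (71,1), (73,0), (74,0), (75,2), (62,1), (64,0), (65,0), (66,0), (67,1), (69,0), (70,0), (71,1), (73,0), (74,2), (61,0), (62,1), (64,0)]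

def mv_roots_equal9 : List (ℕ × ℕ) := [(65,1), (67,0), (68,0), (69,1), (71,0), (72,0), (73,2), (72,2), (71,2), (70,0), (71,2), (68,0), (69,0), (70,0), (71,1), (73,2), (67,0), (68,0), (69,1), (71,0), (72,2), (66,0), (67,1), (69,0), (70,0), (71,0), (72,2), (64,0), (65,0), (63,0), (64,0), (65,1), (67,0), (68,0), (69,0), (70,0), (71,0), (72,0), (73,2), (72,0), (73,2), (56,1), (58,0), (59,0), (60,0), (61,1), (63,0), (64,0), (65,1), (67,0), (68,0), (69,0), (70,1), (72,2), (71,2), (55,0), (56,1), (58,0), (59,1), (61,0), (62,0), (63,0), (64,0), (65,1), (67,0), (68,1), (70,2), (69,2), (57,1), (59,0), (60,0), (61,0), (62,0), (63,0), (64,0), (65,1), (67,0), (68,2), (66,0), (67,2), (65,0), (66,2), (52,0), (53,0), (50,1), (52,0), (53,1), (55,0), (56,0), (57,0), (58,0), (59,1), (61,0), (62,0), (63,1), (65,2), (64,2), (49,0), (50,1), (52,0), (53,1), (55,0), (56,0), (57,1), (59,0), (60,0), (61,1), (63,2), (62,2), (54,0), (55,1), (57,0), (58,0), (59,0), (60,0),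 (61,2), (58,0), (59,0), (60,2), (57,0), (58,0), (59,2), (56,0), (51,0), (52,0), (53,0), (54,0), (44,0), (45,0), (46,0), (47,0), (48,0), (49,0), (50,0), (51,0), (52,0), (53,0), (54,1), (56,1), (58,2), (57,2), (56,2), (51,0), (52,0), (53,0), (54,0), (55,2), (50,0), (51,0), (52,0), (53,0), (54,2), (51,0), (52,0), (53,2), (49,0), (43,0), (44,0), (41,1), (43,0), (44,1), (46,0), (47,0), (48,0), (49,1), (51,0), (52,2), (47,0), (40,0), (41,1), (43,0), (44,1), (46,0), (47,1), (49,0), (50,0), (51,0), (52,2), (46,0), (47,0), (48,0), (49,0), (50,0), (51,0), (52,1), (54,2), (45,0), (38,1), (40,0), (41,0), (42,0), (43,1), (45,1), (47,0), (48,0), (49,0), (50,1), (52,0), (53,2), (37,0), (38,1), (40,0), (41,1), (43,0), (44,0), (45,1), (47,0), (48,1), (50,0), (51,0), (52,0), (53,2), (46,1), (48,0), (49,0), (50,0), (51,0), (52,0), (53,0), (54,2), (53,2), (52,2), (45,0), (46,1), (48,0), (49,0), (50,0), (51,2), (50,2), (44,0), (45,0), (46,1), (48,0), (49,2), (40,0),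 (41,0), (42,0), (43,0), (44,0), (45,0), (46,1), (48,2), (47,2), (46,2), (45,2), (42,0), (43,0), (44,2), (43,2), (41,0)]

def mv_roots_equal10 : List (ℕ × ℕ) := [(42,2), (39,0), (40,0), (41,2), (35,1), (37,0), (38,0), (39,0), (40,2), (34,0), (35,1), (37,0), (38,0), (39,2), (31,0), (32,0), (33,0), (34,0), (35,1), (37,0), (38,2), (27,0), (28,0), (29,0), (30,0), (31,0), (32,0), (33,0), (34,0), (35,1), (37,2), (36,2), (35,2), (34,2), (33,2), (32,2), (31,2), (30,2), (29,2), (28,2), (27,2), (26,2), (25,2), (24,2), (23,2), (22,2), (21,2), (19,0), (20,2), (18,0), (19,2), (17,0), (18,2), (15,0), (16,0), (17,2), (11,0), (12,0), (13,0), (14,0), (15,0), (16,2), (15,2), (14,2), (13,2), (12,2), (11,2), (10,2), (9,2), (7,0), (8,2), (7,2), (4,0), (5,0), (6,2), (5,2), (3,0), (4,2), (3,2), (2,2), (1,2), (0,2)]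

theorem roots_equal : reducesTo (mv_roots_equal0 ++ mv_roots_equal1 ++ mv_roots_equal2 ++ mv_roots_equal3 ++ mv_roots_equal4 ++ mv_roots_equal5 ++ mv_roots_equal6 ++ mv_roots_equal7 ++ mv_roots_equal8 ++ mv_roots_equal9 ++ mv_roots_equal10) ((uOne) ++ (uTwo ++ (par ++ ((expand wordSix).reverse ++ (cube (conjW wThree [1]) (conjW wThree tee) ++ cube (conjW wFour tee) (conjW wFour [1]))))).reverse) 236 = true := by
  decide +kernel

def mv_par_six0 : List (ℕ × ℕ) := [(15,0), (16,2), (14,0), (15,2), (13,0), (14,2), (12,0), (13,2), (11,0), (12,2), (10,0), (11,2), (9,0), (10,2), (8,0), (9,2), (7,0), (8,2), (6,0), (7,2), (5,0), (6,2), (4,0), (5,2), (3,0), (4,2), (2,0), (3,2), (1,0), (2,2), (0,0), (1,2), (0,2)]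

theorem par_six : reducesTo (mv_par_six0) ((conjW par [6]) ++ ([6]).reverse) 17 = true := by
  decide +kernel

def mv_w0_factors0 : List (ℕ × ℕ) := [(54,0), (55,0), (56,0), (57,0), (58,0), (59,1), (61,0), (62,2), (60,0), (61,2), (53,0), (54,0), (55,0), (56,0), (57,1), (59,0), (60,2), (58,0), (59,2), (52,0), (53,0), (54,0), (55,1), (52,0), (53,0), (51,0), (49,1), (51,1), (53,1), (55,0), (56,1), (58,2), (57,2), (54,1), (56,2), (55,2), (52,0), (53,0), (54,2), (48,0), (49,0), (50,1), (33,0), (34,0), (35,0), (36,0), (37,0), (38,1), (40,0), (41,0), (42,0), (43,0), (44,1), (46,0), (47,0), (48,0), (32,0), (33,0), (34,0), (35,0), (36,1), (38,0), (39,0), (40,0), (41,0), (42,1), (44,0), (45,0), (31,0), (32,0), (33,0), (34,1), (36,0), (37,0), (31,0), (32,0), (30,0), (28,1), (30,1), (32,1), (34,0), (35,0), (36,0), (37,1), (39,0), (40,1), (42,0), (43,0), (44,0), (45,1), (47,0), (48,1), (50,0), (51,1), (53,2), (52,2), (49,1), (51,2), (50,2), (36,0), (37,0),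 (38,0), (39,0), (40,0), (41,0), (42,1), (44,0), (45,0), (46,0), (35,0), (36,0), (37,0), (38,0), (39,0), (40,1), (42,0), (33,1), (35,0), (36,0), (37,0), (38,1), (40,0), (41,0), (42,1), (44,0), (45,0), (46,1), (48,0), (49,2), (47,0), (48,2), (41,0), (42,0), (43,0), (44,0), (39,1), (41,0), (42,0), (43,0), (44,1), (46,0), (47,2), (45,0), (46,2), (44,0), (45,2), (32,0), (33,1), (35,0), (36,1), (38,0), (39,0), (40,1), (42,0), (34,0), (35,0), (33,0), (31,0), (29,0), (30,0), (31,1), (33,1), (35,1), (37,0), (38,0), (36,0), (30,0), (31,0), (28,1), (30,0), (31,1), (33,0), (34,0), (19,0), (20,0), (21,0), (22,0), (23,0), (24,1), (26,0), (27,0), (28,0), (29,0), (18,0), (19,0), (20,0), (21,0), (22,1), (24,0), (25,0), (17,0), (18,0), (19,0), (20,1), (22,0), (23,0), (17,0), (18,0), (16,0), (14,1), (16,1), (18,1), (20,0), (21,0), (22,0), (23,1), (25,1), (27,0), (28,0), (29,1), (31,0), (32,0), (33,0), (34,1), (36,1), (38,1), (40,0), (41,0), (42,1), (44,2), (43,2),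 (37,0), (33,0), (34,0), (35,1), (37,1), (39,0), (40,0), (32,0), (33,0), (30,1), (32,0), (33,1), (35,0), (36,0), (37,1), (39,0), (40,1), (42,2), (41,2), (28,0), (29,0), (30,0), (31,0), (27,0), (26,0), (27,1), (29,0), (30,0), (31,1)]

def mv_w0_factors1 : List (ℕ × ℕ) := [(33,0), (34,0), (35,0), (36,0), (37,1), (39,0), (40,2), (12,0), (13,0), (14,0), (15,0), (16,0), (17,0), (18,0), (19,0), (20,1), (22,0), (23,0), (24,1), (26,0), (27,1), (29,0), (30,0), (31,1), (33,0), (34,0), (35,1), (37,0), (23,0), (24,0), (25,0), (11,0), (12,0), (13,0), (14,0), (15,0), (16,0), (17,0), (18,1), (20,0), (21,1), (23,0), (15,0), (11,0), (12,0), (13,1), (15,1), (17,0), (18,0), (19,0), (10,0), (11,0), (8,1), (10,0), (11,1), (13,0), (14,0), (15,1), (17,0), (18,0), (19,1), (21,0), (22,0), (23,1), (25,1), (27,0), (28,0), (29,0), (30,0), (31,1), (33,1), (35,0), (36,0), (37,1), (39,2), (38,2), (32,0), (22,0), (23,0), (24,0), (25,0), (26,1), (28,0), (29,0), (30,1), (32,1),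 (34,0), (35,0), (20,1), (22,0), (23,0), (24,1), (26,0), (27,0), (28,1), (30,0), (31,0), (32,1), (34,0), (35,1), (37,2), (36,2), (30,0), (19,0), (20,1), (22,1), (24,0), (25,0), (26,0), (27,0), (28,1), (30,1), (32,0), (33,0), (34,0), (35,2), (34,2), (21,0), (13,0), (7,0), (8,1), (10,0), (11,1), (13,1), (15,0), (16,0), (17,0), (18,0), (19,1), (21,1), (23,0), (24,0), (25,1), (27,0), (28,0), (29,0), (30,0), (31,1), (33,2), (32,2), (31,2), (30,2), (29,2), (24,0), (25,0), (26,0), (27,0), (28,2), (27,2), (26,2), (25,2), (24,2), (23,2), (22,2), (21,2), (20,2), (19,2), (18,2), (5,0), (6,0), (7,0), (8,0), (9,0), (10,0), (11,0), (12,0), (13,0), (14,0), (15,1), (17,2), (16,2), (15,2), (14,2), (13,2), (12,2), (11,2), (10,2), (9,2), (8,2), (7,2), (6,2), (5,2), (4,2), (3,2), (2,2), (1,2), (0,2)]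

theorem w0_factors : reducesTo (mv_w0_factors0 ++ mv_w0_factors1) ((wordSeven) ++ (conjW uOne [6] ++ wordProd).reverse) 63 = true := by
  decide +kernel

def mv_w0_one0 : List (ℕ × ℕ) := [(0,2), (61,0), (62,2), (60,0), (61,2), (59,0), (60,2), (58,0), (59,2), (57,0), (58,2), (55,1), (57,2), (56,2), (54,0), (55,2), (53,0), (54,2), (52,0), (53,2), (51,0), (52,2), (49,1), (51,2), (50,2), (48,0), (49,2), (25,0), (26,0), (27,0), (28,0), (29,0), (30,1), (32,0), (33,0), (34,0), (35,0), (36,1), (38,0), (39,0), (40,0), (41,0), (42,1), (44,0), (45,0), (46,1), (48,2), (45,0), (46,0), (47,2), (44,0), (45,0), (46,2), (43,0), (39,0), (40,0), (41,1), (43,1), (45,2), (44,2), (24,0), (25,0), (26,0), (27,0), (28,1), (30,0), (31,0), (32,0), (33,0), (34,1), (36,0), (37,0), (38,0), (39,1), (41,0), (42,0), (43,2), (23,0), (24,0), (25,0), (26,1), (28,0), (29,0), (23,0), (24,0), (22,0), (20,1), (22,1), (24,1), (26,0), (27,0), (28,0), (29,1), (31,0), (32,1), (34,0),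 (35,0), (36,0), (37,1), (39,0), (40,0), (41,0), (42,2), (40,0), (41,2), (36,0), (37,0), (38,0), (39,0), (40,2), (35,0), (36,0), (37,0), (34,0), (35,0), (33,0), (31,1), (33,1), (35,1), (37,1), (39,2), (38,2), (36,0), (37,2), (34,0), (35,0), (36,2), (32,0), (33,0), (34,0), (35,2), (30,0), (23,0), (19,0), (20,0), (21,1), (23,1), (25,0), (26,0), (27,0), (28,1), (30,1), (32,0), (33,0), (34,2), (27,0), (28,0), (29,0), (30,0), (31,0), (26,0), (27,0), (28,0), (29,0), (24,1), (26,0), (27,0), (23,0), (24,1), (22,0), (4,0), (5,0), (6,0), (7,0), (8,0), (9,1), (11,0), (12,0), (13,0), (14,0), (15,1), (17,0), (18,0), (19,0), (20,1), (22,1), (24,0), (25,1), (27,1), (29,1), (31,1), (33,2), (32,2), (30,0), (31,2), (28,0), (29,0), (30,2), (23,1), (25,0), (26,0), (27,0), (28,0), (29,2), (19,0), (20,0), (21,0), (3,0), (4,0), (5,0), (6,0), (7,1), (9,0), (10,0), (11,0), (12,0), (13,1), (15,0), (16,0), (17,1), (19,0), (20,0), (21,1), (23,0), (24,0), (25,0), (26,0),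 (27,0), (28,2), (24,0), (25,0), (26,0), (27,2), (26,2), (25,2), (24,2), (23,2), (22,2), (21,2), (20,2), (16,0), (17,0), (18,0), (19,2), (15,0), (16,0), (14,0), (12,1), (14,1), (16,1), (18,2), (17,2), (15,0), (16,2), (13,0), (14,0), (15,2), (11,0), (12,0), (13,0)]

def mv_w0_one1 : List (ℕ × ℕ) := [(14,2), (2,0), (3,0), (4,0), (5,1), (7,0), (8,0), (9,1), (11,0), (12,0), (13,2), (8,0), (9,0), (10,0), (7,0), (8,0), (6,0), (2,0), (3,0), (4,1), (6,1), (8,1), (10,1), (12,2), (11,2), (9,0), (10,2), (7,0), (8,0), (9,2), (1,0), (2,1), (4,0), (5,0), (6,0), (7,0), (8,2), (0,1), (2,0), (3,0), (4,0), (5,0), (6,0), (7,2), (3,0), (4,0), (5,0), (6,2), (5,2), (4,2), (3,2), (2,2), (1,2), (0,2)]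

theorem w0_one : reducesTo (mv_w0_one0 ++ mv_w0_one1) (([1] ++ wordSeven) ++ (wordSeven ++ [1]).reverse) 64 = true := by
  decide +kernel

def mv_sym_five0 : List (ℕ × ℕ) := [(6,1), (8,2), (7,2), (4,1), (6,2), (5,2), (2,1), (4,2), (3,2), (0,1), (2,2), (1,2), (0,2)]

theorem sym_five : reducesTo (mv_sym_five0) ((conjW wFour [1]) ++ ([5]).reverse) 9 = true := by
  decide +kernel

def mv_sym_tee0 : List (ℕ × ℕ) := [(7,2), (5,0), (6,2), (3,0), (4,0), (5,2), (1,0), (2,0), (3,0), (4,2), (20,2), (19,0), (20,2), (18,0), (19,0), (20,2), (17,0), (18,0), (19,0), (20,2), (20,2), (19,2), (18,2), (17,2), (16,2), (15,2), (13,0), (14,2), (13,2), (12,2), (11,2), (10,2), (9,2), (8,2), (6,0), (7,2), (6,2), (5,2), (4,2), (3,2), (2,2), (1,2), (0,2)]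

theorem sym_tee : reducesTo (mv_sym_tee0) ((conjW wFour tee) ++ (tee.map swap).reverse) 29 = true := by
  decide +kernel

def mv_sym_seven0 : List (ℕ × ℕ) := [(62,2), (26,0), (27,0), (28,0), (29,0), (30,0), (31,1), (33,0), (34,0), (35,0), (36,0), (37,1), (39,0), (33,0), (34,0), (35,0), (25,0), (26,0), (27,0), (28,0), (29,1), (31,0), (32,0), (33,0), (20,0), (21,0), (22,0), (23,1), (25,0), (26,0), (27,1), (29,0), (30,0), (31,0), (5,0), (6,0), (7,0), (8,0), (9,0), (10,1), (12,0), (13,0), (14,0), (15,0), (16,1), (18,0), (19,0), (20,0), (21,1), (23,0), (24,0), (25,1), (27,0), (28,0), (29,0), (4,0), (5,0), (6,0), (7,0), (8,1), (10,0), (4,0), (5,0), (6,0), (3,0), (4,0), (2,0), (0,1), (2,1), (4,1), (6,1), (8,0), (9,0), (10,1), (12,0), (13,0), (14,1), (16,0), (17,0), (18,0), (19,1), (21,0), (22,0), (23,1), (25,0), (26,0), (27,0), (28,0), (29,1), (31,1), (33,1), (35,1), (37,0), (38,0), (39,1), (41,0), (42,0), (43,1), (45,0), (46,0), (47,0), (48,0),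 (49,1), (51,0), (52,0), (53,0), (54,0), (55,1), (57,0), (58,0), (59,0), (60,0), (61,2), (28,0), (29,0), (30,0), (31,0), (32,0), (33,0), (34,0), (35,0), (36,1), (27,0), (28,0), (29,0), (30,0), (26,0), (27,0), (24,1), (26,0), (27,1), (29,0), (30,1), (32,0), (33,0), (34,1), (36,0), (37,1), (39,0), (40,0), (41,0), (42,0), (43,1), (45,0), (39,0), (40,0), (41,0), (38,0), (39,0), (32,0), (22,0), (23,0), (24,0), (25,0), (21,0), (20,0), (21,1), (23,0), (24,0), (25,1), (27,0), (28,0), (29,0), (30,1), (32,1), (34,0), (35,0), (36,0), (37,0), (28,0), (29,0), (30,0), (27,0), (9,0), (10,0), (11,0), (12,0), (13,0), (14,0), (15,1), (17,0), (18,0), (19,0), (7,1), (9,0), (10,0), (11,0), (12,0), (13,1), (15,0), (16,0), (17,0), (18,0), (19,1), (21,0), (22,0), (23,0), (24,0), (25,1), (27,1), (29,0), (30,1), (32,0), (33,0), (34,0), (35,0), (23,0), (24,0), (25,0), (26,0), (27,0), (28,0), (22,0), (23,0), (24,0), (21,0), (9,0), (10,0), (11,0), (8,0), (9,0), (5,0),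 (6,0), (7,0), (3,0), (4,0), (5,0), (1,0), (2,0), (3,0), (4,0), (5,1), (7,1), (9,1), (11,1), (13,0), (14,0), (15,0), (16,0), (17,0), (18,0), (19,1), (21,1), (23,0), (24,1), (26,0), (27,0), (28,1), (30,0), (31,0)]

def mv_sym_seven1 : List (ℕ × ℕ) := [(32,0), (33,0), (34,0), (35,1), (37,1), (39,1), (41,1), (43,0), (44,0), (45,1), (47,0), (48,0), (49,1), (51,0), (52,0), (53,0), (54,0), (55,1), (57,0), (58,0), (59,0), (60,2), (32,1), (34,0), (35,0), (36,0), (37,0), (38,0), (39,0), (40,0), (41,0), (42,1), (33,0), (34,0), (35,0), (36,0), (31,0), (32,0), (33,0), (30,0), (29,0), (30,1), (32,0), (33,1), (35,0), (36,1), (38,0), (39,0), (40,1), (42,0), (43,1), (45,0), (46,0), (47,0), (48,0), (49,1), (51,0), (45,0), (46,0), (47,0), (44,0), (45,0), (38,0), (27,0), (28,0), (29,0), (30,0), (31,0), (26,0), (27,0), (25,0), (26,0), (27,1), (29,0), (30,0), (31,1), (33,0), (34,0), (35,0), (36,1), (38,1), (40,0), (41,0), (42,0), (43,0), (34,0), (35,0), (36,0),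 (33,0), (23,0), (24,0), (14,0), (15,0), (16,0), (13,0), (14,0), (15,0), (16,1), (18,0), (19,0), (20,0), (21,0), (22,0), (23,0), (24,1), (21,0), (22,0), (12,0), (13,0), (14,0), (15,0), (16,1), (18,0), (19,0), (20,0), (21,0), (22,1), (24,0), (25,1), (27,0), (28,0), (29,0), (30,0), (31,1), (33,1), (35,0), (36,1), (38,0), (39,0), (40,0), (41,0), (29,0), (30,0), (31,0), (32,0), (33,0), (34,0), (28,0), (29,0), (30,0), (27,0), (18,0), (19,0), (20,0), (10,0), (11,0), (8,0), (9,0), (6,0), (7,0), (8,0), (9,1), (11,1), (13,0), (14,0), (15,0), (16,1), (18,0), (19,0), (20,1), (22,0), (23,0), (24,0), (25,1), (27,1), (29,0), (30,1), (32,0), (33,0), (34,1), (36,0), (37,0), (38,0), (39,0), (40,0), (41,1), (43,1), (45,1), (47,1), (49,0), (50,0), (51,1), (53,0), (54,0), (55,1), (57,0), (58,0), (59,2), (38,1), (40,0), (41,0), (42,0), (43,0), (44,0), (45,0), (46,0), (47,0), (48,1), (39,0), (40,0), (41,0), (42,0), (37,0), (38,0), (39,0), (36,0), (35,0), (36,1),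 (38,0), (39,1), (41,0), (42,1), (44,0), (45,0), (46,1), (48,0), (49,1), (51,0), (52,0), (53,0), (54,0), (55,1), (57,0), (58,2), (47,1), (49,0), (50,0), (51,0), (52,0), (53,0), (54,0), (55,1), (57,2), (56,2), (50,0), (51,0), (52,0), (49,0), (50,0), (44,0), (33,0), (34,0), (35,0), (36,0), (37,0), (32,0), (33,0), (31,0), (32,0), (33,1)]

def mv_sym_seven2 : List (ℕ × ℕ) := [(35,0), (36,0), (37,1), (39,0), (40,0), (41,0), (42,1), (44,1), (46,0), (47,0), (48,0), (40,0), (41,0), (42,0), (39,0), (29,0), (30,0), (22,1), (24,0), (25,0), (26,0), (27,0), (28,0), (29,0), (30,1), (27,0), (28,0), (21,0), (22,1), (24,0), (25,0), (26,0), (27,0), (28,1), (30,0), (31,1), (33,0), (34,0), (35,0), (36,0), (37,1), (39,1), (41,0), (42,1), (44,0), (45,0), (46,0), (35,0), (36,0), (37,0), (38,0), (39,0), (40,0), (34,0), (35,0), (36,0), (33,0), (24,0), (25,0), (26,0), (10,0), (11,1), (13,0), (14,0), (15,0), (16,1), (18,0), (19,0), (20,0), (21,0), (22,1), (24,0), (25,0),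 (26,1), (28,0), (29,0), (30,0), (31,1), (33,1), (35,0), (36,1), (38,0), (39,0), (40,1), (42,0), (43,0), (44,0), (45,0), (46,1), (48,1), (50,1), (52,1), (54,0), (55,2), (47,0), (32,0), (12,0), (13,0), (14,0), (15,0), (16,1), (18,0), (19,0), (20,0), (21,0), (22,1), (24,0), (25,0), (11,0), (12,0), (13,0), (14,1), (16,0), (17,0), (18,0), (19,0), (20,1), (22,0), (23,0), (17,0), (18,0), (10,0), (11,0), (12,1), (14,0), (15,0), (16,0), (3,0), (4,0), (5,0), (6,1), (8,0), (9,0), (10,1), (12,0), (13,0), (14,0), (3,0), (4,0), (2,0), (0,1), (2,1), (4,1), (6,0), (7,0), (8,1), (10,0), (11,0), (12,0), (13,0), (14,1), (16,1), (18,1), (20,0), (21,0), (22,0), (23,1), (25,1), (27,0), (28,0), (29,0), (30,1), (32,1), (34,0), (35,0), (36,0), (37,1), (39,0), (40,0), (41,1), (43,0), (44,0), (45,1), (47,1), (49,0), (50,0), (51,0), (52,0), (53,0), (54,2), (48,0), (46,0), (42,0), (34,0), (35,0), (33,0), (31,0), (13,0), (14,0), (15,0), (16,0), (17,0), (18,0), (19,0),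 (20,1), (22,0), (23,0), (12,0), (13,0), (14,0), (15,0), (16,0), (17,0), (18,1), (20,0), (11,0), (12,0), (9,1), (11,0), (12,1), (14,0), (15,0), (16,1), (18,0), (19,0), (20,1), (22,0), (23,1), (25,0), (26,0), (27,0), (28,0), (29,0), (30,0), (31,1), (33,1), (35,1), (37,0), (38,0), (39,0), (40,0), (26,1), (28,0), (29,0), (30,0), (31,0), (32,0), (33,0), (25,0), (26,1), (28,0), (29,0), (30,0), (22,0), (23,0), (24,0), (25,0), (26,1), (23,0), (24,0)]

def mv_sym_seven3 : List (ℕ × ℕ) := [(21,0), (22,0), (14,0), (6,0), (7,0), (5,0), (6,0), (7,1), (9,0), (10,0), (11,0), (12,1), (14,1), (16,0), (17,0), (18,0), (19,0), (20,0), (10,0), (11,0), (12,0), (9,0), (3,0), (1,0), (2,0), (3,1), (5,0), (6,0), (7,1), (9,1), (11,0), (12,1), (14,0), (15,0), (16,0), (17,0), (18,0), (19,0), (20,1), (22,1), (24,1), (26,0), (27,1), (29,0), (30,1), (32,0), (33,1), (35,0), (36,0), (37,0), (38,0), (39,0), (40,1), (42,1), (44,0), (45,0), (46,1), (48,1), (50,0), (51,0), (52,0),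 (53,2), (49,0), (47,0), (36,0), (37,0), (38,0), (39,0), (40,0), (35,0), (36,0), (32,0), (33,0), (34,0), (29,0), (30,0), (31,0), (32,0), (17,0), (15,1), (17,1), (19,0), (20,0), (21,0), (22,0), (23,0), (24,0), (25,0), (26,0), (27,0), (28,0), (29,0), (30,0), (31,0), (32,1), (34,1), (36,1), (31,0), (32,0), (33,0), (34,0), (29,0), (30,0), (31,0), (27,0), (28,0), (18,0), (19,0), (20,0), (21,0), (16,0), (17,0), (18,0), (14,0), (15,0), (13,0), (14,0), (15,1), (17,0), (18,1), (20,0), (21,1), (23,0), (24,0), (25,0), (26,0), (27,0), (28,1), (30,0), (31,1), (33,0), (34,1), (36,0), (37,1), (39,0), (40,1), (42,0), (43,0), (44,0), (45,0), (46,0), (47,1), (49,1), (51,0), (52,2), (42,0), (43,0), (44,0), (45,0), (41,0), (42,0), (35,1), (37,0), (38,0), (39,0), (33,0), (32,0), (33,1), (35,0), (36,0), (37,0), (38,0), (39,1), (41,0), (42,1), (44,0), (45,1), (47,0), (48,0), (49,1), (51,2), (50,2), (37,0), (38,0), (39,0), (40,0), (41,0), (42,0), (43,0), (36,0), (37,0),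 (38,0), (39,0), (23,1), (25,0), (26,0), (27,0), (28,0), (29,0), (20,0), (21,0), (22,0), (23,1), (25,0), (21,0), (19,0), (11,0), (12,0), (13,0), (10,0), (11,0), (12,0), (13,1), (15,0), (16,0), (17,0), (18,0), (19,1), (21,1), (23,0), (24,0), (25,1), (27,0), (28,0), (29,1), (31,0), (32,0), (33,0), (34,1), (16,0), (17,0), (18,0), (19,0), (20,0), (21,0), (22,1), (15,0), (16,0), (8,0), (9,0), (4,0), (5,0), (6,0), (7,0), (8,0), (9,1), (11,0), (12,0), (13,1), (15,0), (16,1), (18,0), (19,0), (20,1), (22,0), (23,1), (25,0), (26,0), (27,0), (28,0)]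

def mv_sym_seven4 : List (ℕ × ℕ) := [(29,1), (31,0), (32,1), (34,0), (35,1), (37,0), (38,0), (39,1), (41,0), (42,0), (43,1), (45,0), (46,0), (47,0), (48,0), (49,2), (46,0), (27,0), (28,0), (29,0), (26,0), (27,0), (28,0), (29,1), (31,0), (32,0), (33,0), (34,0), (35,0), (36,1), (38,0), (39,0), (40,1), (42,0), (43,0), (44,1), (46,1), (48,2), (37,0), (38,0), (39,0), (36,0), (37,0), (35,0), (28,0), (29,0), (30,0), (27,0), (28,0), (25,0), (26,0), (15,0), (16,0), (17,0), (14,0), (4,0), (5,0), (6,1), (8,0), (9,0), (10,0), (11,0), (12,1), (14,1), (16,0), (17,1), (19,0), (20,0), (21,0), (22,0), (23,0), (24,0), (10,0), (11,0), (12,0), (13,0), (14,0), (15,0), (9,0), (10,0), (11,0), (8,0), (2,0), (3,0), (4,1), (6,0), (0,1), (2,1), (4,0), (5,0), (6,1), (8,1), (10,0), (11,1), (13,0), (14,0), (15,1), (17,0), (18,0), (19,0), (20,0), (21,0), (22,0), (23,0), (24,1), (26,1), (28,1), (30,1), (32,0), (33,1), (35,1), (37,1), (39,1), (41,0), (42,0), (43,0), (44,0),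 (45,0), (46,0), (47,2), (40,0), (41,0), (42,0), (38,0), (39,0), (40,0), (36,0), (37,0), (38,0), (34,0), (35,0), (36,0), (19,1), (21,0), (22,0), (23,0), (24,0), (25,0), (26,0), (27,0), (28,0), (18,0), (19,1), (21,0), (22,0), (23,0), (24,0), (25,0), (14,0), (15,0), (16,0), (17,0), (18,0), (19,1), (21,0), (22,0), (16,0), (17,0), (13,0), (14,0), (15,0), (10,0), (11,0), (12,0), (13,0), (5,0), (6,0), (7,0), (8,0), (9,0), (10,0), (11,0), (12,0), (13,1), (15,1), (17,1), (19,0), (12,0), (13,0), (14,0), (15,0), (10,0), (11,0), (12,0), (8,0), (9,0), (3,1), (5,0), (6,0), (7,0), (8,0), (9,1), (11,0), (12,1), (14,0), (15,1), (17,0), (18,0), (19,1), (21,0), (22,1), (24,0), (25,1), (27,0), (28,1), (30,0), (31,0), (32,0), (33,0), (34,0), (35,0), (36,1), (38,1), (40,1), (42,1), (44,0), (45,0), (46,2), (43,0), (41,0), (30,1), (32,0), (33,0), (34,0), (35,0), (36,0), (27,0), (28,0), (29,0), (30,1), (32,0), (33,0), (28,0), (26,0), (18,0), (19,0), (20,0), (16,1),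 (18,0), (19,0), (20,1), (22,0), (23,0), (24,0), (25,0), (26,1), (28,1), (30,0), (31,0), (32,0)]

def mv_sym_seven5 : List (ℕ × ℕ) := [(33,1), (35,0), (36,1), (38,0), (39,0), (40,0), (41,1), (43,1), (45,2), (44,2), (38,0), (39,0), (23,0), (24,0), (25,0), (26,0), (27,0), (28,0), (29,1), (31,0), (22,0), (23,0), (14,0), (13,0), (14,1), (16,0), (17,0), (18,0), (19,0), (20,1), (22,0), (23,1), (25,0), (26,0), (27,1), (29,0), (30,0), (31,1), (33,0), (34,0), (35,0), (36,1), (38,0), (39,1), (41,0), (42,0), (43,2), (34,0), (35,0), (36,0), (37,0), (33,0), (25,0), (11,0), (12,0), (10,0), (11,0), (12,1), (14,0), (15,0), (16,0), (17,0), (18,0), (19,0), (20,1), (22,0), (23,1), (25,1), (27,0), (28,0), (29,0), (30,0), (31,1), (33,1), (35,0), (36,0), (37,1), (39,0), (40,0), (41,0), (42,2), (40,0), (41,2), (29,0), (30,0), (31,0), (32,0), (33,0), (34,0), (27,1), (29,0), (30,0), (31,0), (32,0), (26,0), (27,1), (29,0), (30,0), (25,0), (26,0), (27,1), (24,0), (25,0),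 (23,0), (8,0), (9,0), (7,0), (2,0), (3,1), (5,1), (7,1), (9,1), (11,0), (12,0), (13,0), (14,0), (15,1), (17,0), (18,0), (19,0), (20,0), (21,1), (23,1), (25,1), (27,0), (28,1), (30,1), (32,1), (34,1), (36,0), (37,0), (38,0), (39,0), (40,2), (35,0), (36,0), (37,0), (33,0), (34,0), (35,0), (31,0), (32,0), (33,0), (29,0), (30,0), (31,0), (20,0), (21,0), (22,0), (23,0), (19,0), (20,0), (10,0), (11,0), (12,0), (13,1), (15,0), (16,0), (17,1), (19,0), (20,1), (22,0), (23,1), (25,0), (26,0), (27,0), (28,0), (29,0), (30,0), (31,1), (33,1), (35,1), (37,1), (39,2), (38,2), (36,0), (37,2), (34,0), (35,0), (36,2), (32,0), (33,0), (34,0), (35,2), (25,1), (27,0), (28,0), (29,0), (30,0), (22,0), (23,0), (24,0), (25,1), (27,0), (28,0), (23,0), (21,0), (8,0), (9,0), (10,0), (11,1), (13,0), (14,0), (15,1), (17,0), (18,0), (19,0), (20,0), (21,1), (23,1), (25,0), (26,0), (27,0), (28,1), (30,1), (32,0), (33,0), (34,2), (27,0), (28,0), (29,0), (30,0), (31,0), (26,0),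 (27,0), (28,0), (29,0), (24,1), (26,0), (27,0), (23,0), (24,1), (22,0), (8,0), (9,0), (10,0), (11,0), (12,1), (14,0), (15,0), (16,1), (18,0), (19,0), (20,1), (22,1), (24,0), (25,1), (27,1), (29,1), (31,1)]

def mv_sym_seven6 : List (ℕ × ℕ) := [(33,2), (32,2), (30,0), (31,2), (28,0), (29,0), (30,2), (23,1), (25,0), (26,0), (27,0), (28,0), (29,2), (19,0), (20,0), (21,0), (7,0), (8,0), (9,0), (10,1), (12,0), (13,0), (14,1), (16,0), (17,1), (19,0), (20,0), (21,1), (23,0), (24,0), (25,0), (26,0), (27,0), (28,2), (24,0), (25,0), (26,0), (27,2), (26,2), (25,2), (24,2), (23,2), (22,2), (21,2), (20,2), (12,0), (13,0), (14,0), (11,0), (12,0), (10,0), (4,0), (1,0), (2,1), (4,1), (6,0), (7,0), (8,1), (10,1), (12,1), (14,1), (16,0), (17,0), (18,0), (19,2), (15,0), (16,0), (13,0), (14,0), (11,0), (12,0), (5,0), (6,1), (8,0), (9,0), (10,0), (11,0), (12,1), (14,1), (16,1), (18,2), (17,2), (15,0), (16,2), (13,0), (14,0), (15,2), (0,1), (2,0), (3,0), (4,1),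 (6,0), (7,0), (8,0), (9,0), (10,0), (11,0), (12,0), (13,0), (14,2), (7,0), (8,0), (9,0), (2,0), (3,0), (4,0), (5,1), (7,0), (8,0), (9,1), (11,0), (12,0), (13,2), (8,0), (9,0), (10,0), (7,0), (8,0), (6,0), (2,0), (3,0), (4,1), (6,1), (8,1), (10,1), (12,2), (11,2), (9,0), (10,2), (7,0), (8,0), (9,2), (1,0), (2,1), (4,0), (5,0), (6,0), (7,0), (8,2), (0,1), (2,0), (3,0), (4,0), (5,0), (6,0), (7,2), (3,0), (4,0), (5,0), (6,2), (5,2), (4,2), (3,2), (2,2), (1,2), (0,2)]

theorem sym_seven : reducesTo (mv_sym_seven0 ++ mv_sym_seven1 ++ mv_sym_seven2 ++ mv_sym_seven3 ++ mv_sym_seven4 ++ mv_sym_seven5 ++ mv_sym_seven6) ((wordAlt) ++ (wordSeven.map swap).reverse) 63 = true := by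
  decide +kernel

end CfsgLib.KnownB.TypeM22.Unique
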