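import Cfsg.Agent.Lib.KnownB.TypeM22.Kernel
import Cfsg.Agent.Lib.KnownB.TypeM22Unique.Words

/-!
Nine members in the pattern of the diagram `Y₃₃₂`: the values of words in them.
-/

set_option autoImplicit false

namespace CfsgLib.KnownB.TypeM22.Unique

open Cfsg CfsgLib.ThreeTransp CfsgLib.Involutions
open CfsgLib.KnownB.Fi22Mult

universe u

variable {G : Type u} [Group G] {D : Set G}

/-- Nine members in the pattern of the diagram. -/
structure Pattern (D : Set G) (y : ℕ → G) : Prop where
  mem : ∀ i, i < 9 → y i ∈ D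
  comm : ∀ i j, i < 9 → j < 9 → edgeB i j = false → Commute (y i) (y j)
  ncomm : ∀ i j, i < 9 → j < 9 → edgeB i j = true → ¬ Commute (y i) (y j)

/-- All letters are generators. -/
def small (w : List ℕ) : Bool := w.all fun i => Nat.blt i 9

theorem apart : ((List.range 9).all fun i => (List.range 9).all fun j => Nat.beq i j || edgeB i j ||
    (List.range 9).any fun k => xor (edgeB i k) (edgeB j k)) = true := by decide +kernel

variable {y : ℕ → G}

theorem Pattern.ne (Y : Pattern D y) {i j : ℕ} (hi : i < 9) (hj : j < 9) (hij : i ≠ j)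
    (he : edgeB i j = false) : y i ≠ y j := fun e => by
  have h1 := List.all_eq_true.1 (List.all_eq_true.1 apart i (List.mem_range.2 hi)) j (List.mem_range.2 hj)
  simp only [Bool.or_eq_true, Nat.beq_eq, he, Bool.false_eq_true, or_false, hij, false_or, List.any_eq_true,
    List.mem_range] at h1
  obtain ⟨k, hk, hx⟩ := h1
  cases h2 : edgeB i k <;> cases h3 : edgeB j k <;> simp [h2, h3] at hx
  · exact Y.ncomm j k hj hk h3 (e ▸ Y.comm i k hi hk h2)
  · exact Y.ncomm i k hi hk h2 (e.symm ▸ Y.comm j k hj hk h3)

theorem Pattern.mem_nb (Y : Pattern D y) {i j : ℕ} (hi : i < 9) (hj : j < 9) (hij : i ≠ j)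
    (he : edgeB i j = false) : y j ∈ nb D (y i) :=
  ⟨Y.mem j hj, (Y.ne hi hj hij he).symm, Y.comm i j hi hj he⟩

theorem Pattern.braided (Y : Pattern D y) (hW : WeakTS D) : Braided y 1 :=
  ⟨fun i j hi hj he => hW.braid (Y.mem i hi) (Y.mem j hj) (Y.ncomm i j hi hj he),
    fun i j hi hj he _ => (Y.comm i j hi hj he).eq, fun i hi => hW.sq _ (Y.mem i hi),
    fun g => by rw [mul_one, one_mul]⟩

theorem Pattern.sq (Y : Pattern D y) (hW : WeakTS D) {w : List ℕ} (hw : small w = true) :
    ∀ i ∈ w, y i * y i = 1 := fun i hi =>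
  hW.sq _ (Y.mem i (by simpa [small] using List.all_eq_true.1 hw i hi))

theorem Pattern.val_rev (Y : Pattern D y) (hW : WeakTS D) {w : List ℕ} (hw : small w = true) :
    val y w.reverse = (val y w)⁻¹ := by
  induction w with
  | nil => simp [val_nil]
  | cons a w ih =>
    simp only [small, List.all_cons, Bool.and_eq_true, Nat.blt_eq] at hw
    rw [List.reverse_cons, val_append, ih hw.2, val_cons, val_cons, val_nil, mul_one, mul_inv_rev,
      hW.inv (Y.mem a hw.1)]

/-- Two words with equal values by moves. -/
theorem Pattern.eqv (Y : Pattern D y) (hW : WeakTS D) {ms : List (ℕ × ℕ)} {A B : List ℕ} {n : ℕ}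
    (hr : reducesTo ms (A ++ B.reverse) n = true) (hB : small B = true) : val y A = val y B := by
  have h1 := (Y.braided hW).reduces hr
  rwa [val_append, Y.val_rev hW hB, one_pow, mul_inv_eq_one] at h1

theorem Pattern.val_conjW (Y : Pattern D y) (hW : WeakTS D) {w : List ℕ} (hw : small w = true) (x : List ℕ) :
    val y (conjW w x) = val y w * val y x * (val y w)⁻¹ := by
  rw [conjW, val_append, val_append, Y.val_rev hW hw]

theorem Pattern.root (Y : Pattern D y) (hW : WeakTS D) {w : List ℕ} (hw : small w = true) {x : ℕ} (hx : x < 9) :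
    val y (conjW w [x]) ∈ D := by
  rw [Y.val_conjW hW hw, val_cons, val_nil, mul_one]
  exact hW.conj _ _ (Y.mem x hx)

/-- Images of two joined letters do not commute. -/
theorem Pattern.pair (Y : Pattern D y) (hW : WeakTS D) {w : List ℕ} (hw : small w = true) {p q : ℕ} (hp : p < 9)
    (hq : q < 9) (he : edgeB p q = true) {A B : G} (hA : val y (conjW w [p]) = A)
    (hB : val y (conjW w [q]) = B) : ¬ Commute A B := by
  rw [← hA, ← hB, Y.val_conjW hW hw, Y.val_conjW hW hw, commute_conj_iff]
  simpa [val_cons, val_nil] using Y.ncomm p q hp hq he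

/-- A product of two members which do not commute has order three. -/
theorem pow_three (hW : WeakTS D) {a b : G} (ha : a ∈ D) (hb : b ∈ D) (hn : ¬ Commute a b) :
    a * b * (a * b * (a * b)) = 1 := by
  have h1 : a * b * a = b * a * b := hW.braid ha hb hn
  calc a * b * (a * b * (a * b)) = (a * b * a) * (b * a * b) := by simp only [mul_assoc]
    _ = (a * b * a) * (a * b * a) := by rw [← h1]
    _ = a * b * (a * a) * (b * a) := by simp only [mul_assoc]
    _ = a * (b * b) * a := by rw [hW.sq a ha, mul_one]; simp only [mul_assoc]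
    _ = 1 := by rw [hW.sq b hb, mul_one, hW.sq a ha]

theorem tee_small : small tee = true := by decide +kernel

/-- The translations of order three vanish. -/
theorem Pattern.cube_one (Y : Pattern D y) (hW : WeakTS D) (hT : ¬ Commute (y 1) (val y tee)) {w : List ℕ}
    (hw : small w = true) :
    val y (cube (conjW w [1]) (conjW w tee)) = 1 ∧ val y (cube (conjW w tee) (conjW w [1])) = 1 := by
  have h1 : y 1 ∈ D := Y.mem 1 (by norm_num)
  have h2 : val y tee ∈ D := Y.root hW (by decide +kernel) (by norm_num)
  have a1 := pow_three hW h1 h2 hT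
  have a2 := pow_three hW h2 h1 fun e => hT e.symm
  constructor <;>
    simp only [cube, val_append, Y.val_conjW hW hw, val_cons, val_nil, mul_one]
  · calc _ = val y w * (y 1 * val y tee * (y 1 * val y tee * (y 1 * val y tee))) * (val y w)⁻¹ := by group
      _ = 1 := by rw [a1, mul_one, mul_inv_cancel]
  · calc _ = val y w * (val y tee * y 1 * (val y tee * y 1 * (val y tee * y 1))) * (val y w)⁻¹ := by group
      _ = 1 := by rw [a2, mul_one, mul_inv_cancel]

theorem val_expand {z : ℕ → G} (h9 : z 9 = val y beta) (hz : ∀ i, i ≠ 9 → z i = y i) :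
    ∀ w : List ℕ, val y (expand w) = val z w
  | [] => by simp [expand, val_nil]
  | a :: w => by
    have ih := val_expand h9 hz w
    simp only [expand] at ih
    simp only [expand, List.flatMap_cons, val_append, ih, val_cons]
    by_cases ha : a = 9
    · subst ha; simp [h9]
    · simp [ha, hz a ha, val_cons, val_nil]

end CfsgLib.KnownB.TypeM22.Unique
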