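import Cfsg.Agent.Lib.KnownB.TypeM22Unique.TreeData
import Cfsg.Agent.Lib.KnownB.TypeM22Unique.Codes

/-!
The checks of the two search trees.
-/

set_option autoImplicit false
set_option maxRecDepth 100000

namespace CfsgLib.KnownB.TypeM22.Unique

open CfsgLib.Spor (QField)

/-- The mask of a list of codes. -/
def mask : List ℕ → ℕ
  | [] => 0
  | c :: l => 2 ^ c ||| mask l

theorem mask_spec : ∀ {l : List ℕ} {c : ℕ}, (mask l).testBit c = true → c ∈ l
  | [], c, h => by simp [mask] at h
  | a :: l, c, h => by
    simp only [mask, Nat.testBit_or, Bool.or_eq_true, Nat.testBit_two_pow, decide_eq_true_eq] at h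
    rcases h with rfl | h
    · exact List.mem_cons_self
    · exact List.mem_cons_of_mem _ (mask_spec h)

/-- Six known members along a path. -/
def pathOK (K : ℕ × ℕ) (l : List ℕ) : Bool :=
  (List.range 6).all fun i => K.1.testBit (l.getD i 0) && (List.range 6).all fun j => Nat.beq i j ||
    (decide (bform qsig (qvec (l.getD i 0)) (qvec (l.getD j 0)) = 0) == !(Nat.beq (i + 1) j || Nat.beq (j + 1) i))

/-- Six known members along a path and the point continuing it, which is outside. -/
def pathOffOK (K : ℕ × ℕ) (l : List ℕ) : Bool :=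
  pathOK K l && K.2.testBit (l.getD 6 0) && (Nat.blt (l.getD 6 0) 4096 && isoN (l.getD 6 0) && !Nat.beq (l.getD 6 0) 0) &&
    (List.range 6).all fun i => decide (bform qsig (qvec (l.getD 6 0)) (qvec (l.getD i 0)) = 0) == !Nat.beq i 0

theorem treeOne_ok : treeOne.check pathOK lineOK (mask [1, 4, 256, 20, 1024], 0) = true := by
  decide +kernel

theorem treeTwo_ok : treeTwo.check pathOffOK lineOK (mask [1, 1344, 4, 256, 20, 1024, 64], 0) = true := by
  decide +kernel

end CfsgLib.KnownB.TypeM22.Unique
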