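import Cfsg.Agent.Lib.KnownB.TypeM22Unique.Search
import Cfsg.Agent.Lib.KnownB.TypeM22Unique.Line
import Cfsg.Agent.Lib.KnownB.TypeM22Unique.PathFrame
import Cfsg.Agent.Lib.KnownB.TypeM22Unique.Pattern
import Cfsg.Agent.Lib.KnownB.TypeM22Unique.Traj

/-!
Nine members in the pattern of the diagram exist, with the translation of order three.
-/

set_option autoImplicit false

namespace CfsgLib.KnownB.TypeM22.Unique

open Cfsg CfsgLib.Classical.Unitary CfsgLib.ThreeTransp CfsgLib.ThreeTransp.USix CfsgLib.Involutions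
open CfsgLib.Spor (QField)
open CfsgLib.KnownB.Fi22Mult (edgeB val val_cons val_nil)

universe u

variable {F : Type} [Field F] {σ : F →+* F} {hF : Nat.card F = 2 ^ 2} {h : UFrob σ 2}
  {G : Type u} [Group G] [Finite G] {D : Set G} {a b : G} {f : Subgroup.closure (nb D a) →* PSU 6 F 2}
  {e : QField ≃+* F} {r s : Fin 3 → V F}

/-- The point with this code commutes with the second member. -/
def On (hF : Nat.card F = 2 ^ 2) (h : UFrob σ 2) (f : Subgroup.closure (nb D a) →* PSU 6 F 2)
    (e : QField ≃+* F) (r s : Fin 3 → V F) (b : G) (c : ℕ) : Prop :=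
  ∃ z, IsPt hF h f z (vq e r s (qvec c)) ∧ Commute b z

theorem qcases : ∀ x : QField, x = 0 ∨ ∃ m ∈ ([1, 2, 3] : List ℕ), x = dig m 0 := by decide

theorem vq_comb (u v : Fin 6 → QField) (x y : QField) :
    vq e r s (fun t => x * u t + y * v t) = e x • vq e r s u + e y • vq e r s v := by
  rw [vq_add (e := e) v (fun t => x * u t) y, vq_smul]

omit [Finite G] in
theorem exists_code (P : PMap hF h D a f) (H : Hyp σ r s) {c : ℕ} (hc : c < 4096) (hc0 : c ≠ 0)
    (hi : isoN c = true) : ∃ z, IsPt hF h f z (vq e r s (qvec c)) := by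
  have : Finite F := Nat.finite_of_card_ne_zero (by rw [hF]; norm_num)
  refine exists_isPt P ?_ ?_
  · rw [H.vq_uh h, (isoN_iff hc).2 hi, map_zero]
  · intro e0
    have h1 := H.vq_inj h (e0.trans (vq_zero (e := e) (r := r) (s := s)).symm)
    have h2 : qvec c = qvec 0 := h1.trans (by decide)
    exact hc0 (congrArg Fin.val (qvec_bij.1 (a₁ := ⟨c, hc⟩) (a₂ := ⟨0, by norm_num⟩) h2))

/-- The lines obey the axiom. -/
theorem on_line (S : Setting D) (hP : Maps hF h D) (ha : a ∈ D) (hb : b ∈ D) (hab : ¬ Commute a b)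
    (P : PMap hF h D a f) (H : Hyp σ r s) {l : List ℕ} (hl : lineOK l = true) :
    ∃ p ∈ pats, Fits (On hF h f e r s b) l p := by
  have hW := S.weak
  simp only [lineOK, Bool.and_eq_true, Nat.beq_eq, List.all_eq_true, List.mem_range, Nat.blt_eq,
    Bool.not_eq_true', Bool.or_eq_true, decide_eq_true_eq, List.any_eq_true] at hl
  obtain ⟨hlen, hl⟩ := hl
  choose z hz using fun i : Fin 5 => exists_code (e := e) P H (hl i.val i.2).1.1.1.1
    (fun e0 => by have := (hl i.val i.2).1.1.1.2; rw [e0] at this; simp at this) (hl i.val i.2).1.1.2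
  have horth : ∀ i j : Fin 5, uh σ (vq e r s (qvec (l.getD i.val 0))) (vq e r s (qvec (l.getD j.val 0))) = 0 := by
    intro i j
    by_cases hij : i = j
    · subst hij; exact (hz i).iso
    · rw [H.vq_uh h, (((hl i.val i.2).2 j.val j.2).resolve_left fun e0 => hij (Fin.ext e0)).1, map_zero]
  have hinj : Function.Injective z := by
    intro i j hij
    by_contra hne
    obtain ⟨x, hx⟩ := (hz i).eq_smul (hij ▸ hz j) (isPt_ne_zero P (hz i))
    obtain ⟨x', rfl⟩ := e.surjective x
    rw [← vq_smul] at hx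
    have : Finite F := Nat.finite_of_card_ne_zero (by rw [hF]; norm_num)
    have h1 := H.vq_inj h hx
    have h2 := (((hl i.val i.2).2 j.val j.2).resolve_left fun e0 => hne (Fin.ext e0)).2
    rcases qcases x' with rfl | ⟨m, hm, rfl⟩
    · exact isPt_ne_zero P (hz i) (by rw [h1]; simp [vq, lin])
    · have h3 := h2 m hm
      rw [decide_eq_false_iff_not] at h3
      exact h3 h1
  refine fits_of_choice hlen fun i hi hon => ?_
  obtain ⟨z', hz', hbz⟩ := hon
  obtain ⟨j, hji, hj⟩ := line_axiom hW hP ha hb hab P hz hinj horth (fun k => by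
    obtain ⟨m, -, n, -, hmn⟩ := (hl k.val k.2).1.2
    exact ⟨e (dig m 0), e (dig n 0), by rw [hmn, vq_comb]; rfl⟩) (i := ⟨i, hi⟩)
    (IsPt.unique P hz' (hz ⟨i, hi⟩) ▸ hbz)
  refine ⟨j.val, j.2, fun e0 => hji (Fin.ext e0), fun k hk hki => ?_⟩
  have hk' : (⟨k, hk⟩ : Fin 5) ≠ ⟨i, hi⟩ := fun e0 => hki (congrArg Fin.val e0)
  refine Iff.trans ⟨fun ⟨w, hw, hbw⟩ => ?_, fun e0 => ⟨_, hz ⟨k, hk⟩, e0⟩⟩
    ((hj _ hk').trans ⟨fun e0 => congrArg Fin.val e0, fun e0 => Fin.ext e0⟩)
  exact IsPt.unique P hw (hz ⟨k, hk⟩) ▸ hbw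

/-- Six members along a path which commute with the second member. -/
def Good (D : Set G) (a b : G) (q : Fin 6 → G) : Prop :=
  (∀ i, q i ∈ nb D a ∧ Commute b (q i)) ∧ ∀ i j, i ≠ j → (Commute (q i) (q j) ↔ adj6 i j = false)

/-- The continuation of a path is outside. -/
def GoodOff (D : Set G) (a b : G) : Prop :=
  ∃ q t, Good D a b q ∧ t ∈ nb D a ∧ ¬ Commute b t ∧ ∀ i, (Commute t (q i) ↔ i ≠ 0)

omit [Finite G] in
theorem good_of_pathOK (P : PMap hF h D a f) (hW : WeakTS D) (H : Hyp σ r s) {K : ℕ × ℕ} {l : List ℕ}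
    (hg : pathOK K l = true) (hK : Sem (On hF h f e r s b) K) :
    ∃ q, Good D a b q ∧ ∀ i : Fin 6, IsPt hF h f (q i) (vq e r s (qvec (l.getD i.val 0))) := by
  simp only [pathOK, List.all_eq_true, List.mem_range, Bool.and_eq_true, Bool.or_eq_true, Nat.beq_eq,
    beq_iff_eq] at hg
  choose q hq hbq using fun i : Fin 6 => hK.1 _ (hg i.val i.2).1
  refine ⟨q, ⟨fun i => ⟨(hq i).mem, hbq i⟩, fun i j hij => ?_⟩, hq⟩
  rw [commute_code P hW H (hq i) (hq j), ← decide_eq_true_iff (p := bform qsig _ _ = 0),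
    ((hg i.val i.2).2 j.val j.2).resolve_left fun e0 => hij (Fin.ext e0)]
  simp [adj6]

omit [Finite G] in
theorem goodOff_of_pathOffOK (P : PMap hF h D a f) (hW : WeakTS D) (H : Hyp σ r s) {K : ℕ × ℕ} {l : List ℕ}
    (hg : pathOffOK K l = true) (hK : Sem (On hF h f e r s b) K) : GoodOff D a b := by
  simp only [pathOffOK, Bool.and_eq_true, List.all_eq_true, List.mem_range, Nat.blt_eq, Bool.not_eq_true',
    beq_iff_eq] at hg
  obtain ⟨⟨⟨hp, hoff⟩, ⟨hlt, hiso⟩, h0⟩, hc⟩ := hg
  obtain ⟨q, hgood, hq⟩ := good_of_pathOK P hW H hp hK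
  obtain ⟨t, ht⟩ := exists_code (e := e) P H hlt (fun e0 => by rw [e0] at h0; simp at h0) hiso
  refine ⟨q, t, hgood, ht.mem, fun e0 => hK.2 _ hoff ⟨t, ht, e0⟩, fun i => ?_⟩
  rw [commute_code P hW H ht (hq i), ← decide_eq_true_iff (p := bform qsig _ _ = 0), hc i.val i.2]
  rw [Bool.not_eq_true', ← Bool.not_eq_true, Nat.beq_eq, ← Fin.val_ne_iff]
  simp

theorem sem_mask {T : ℕ → Prop} {l : List ℕ} (hl : ∀ c ∈ l, T c) : Sem T (mask l, 0) :=
  ⟨fun c hc => hl c (mask_spec hc), fun c hc => by simp at hc⟩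

/-- Five members in the standard places. -/
theorem exists_five (S : Setting D) (hP : Maps hF h D) (ha : a ∈ D) (hb : b ∈ D) (hab : ¬ Commute a b)
    (P : PMap hF h D a f) (e : QField ≃+* F) :
    ∃ r s, Hyp σ r s ∧ ∀ c ∈ ([1, 4, 256, 20, 1024] : List ℕ), On hF h f e r s b c := by
  have : Finite F := Nat.finite_of_card_ne_zero (by rw [hF]; norm_num)
  have hW := S.weak
  obtain ⟨g, hga, hgb, hg, -⟩ := both_mem S ha hb hab
  obtain ⟨v, hv0, hv⟩ := exists_vec P hg
  obtain ⟨r, s, H, hr⟩ := exists_frame_at hF h hv.iso hv0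
  have lift : ∀ x : V F, uh σ x x = 0 → uh σ x v = 0 → (∀ c : F, x ≠ c • v) →
      ∃ α : F, ∃ z, IsPt hF h f z (x + α • v) ∧ Commute b z := by
    intro x hx hxv hind
    obtain ⟨w, hw⟩ : ∃ w : Fin 5 → V F, w = ![v, x, x + e (dig 1 0) • v, x + e (dig 2 0) • v, x + e (dig 3 0) • v] :=
      ⟨_, rfl⟩
    have hcomb : ∀ i : Fin 5, i ≠ 0 → ∃ α : F, w i = x + α • v := by
      intro i hi
      subst hw
      fin_cases i
      · exact absurd rfl hi
      · exact ⟨0, by simp⟩
      all_goals exact ⟨_, rfl⟩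
    have horth : ∀ i j, uh σ (w i) (w j) = 0 := by
      intro i j
      subst hw
      fin_cases i <;> fin_cases j <;>
        simp [uh_add_left, uh_add_right, uh_smul_left, uh_smul_right, hx, hxv, h.swap_zero hxv, hv.iso]
    have hn0 : ∀ i, w i ≠ 0 := by
      intro i
      by_cases hi : i = 0
      · subst hw hi; simpa using hv0
      · obtain ⟨α, hα⟩ := hcomb i hi
        rw [hα]
        exact fun e0 => hind (-α) (by rw [neg_smul]; exact eq_neg_of_add_eq_zero_left e0)
    choose z hz using fun i => exists_isPt P (horth i i) (hn0 i)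
    have hinj : Function.Injective z := by
      intro i j hij
      obtain ⟨c, hc⟩ := (hz i).eq_smul (hij ▸ hz j) (hn0 i)
      have d12 : e (dig 1 0) ≠ e (dig 2 0) := e.injective.ne (by decide)
      have d13 : e (dig 1 0) ≠ e (dig 3 0) := e.injective.ne (by decide)
      have d23 : e (dig 2 0) ≠ e (dig 3 0) := e.injective.ne (by decide)
      have d1 : e (dig 1 0) ≠ 0 := (map_ne_zero_iff _ e.injective).2 (by decide)
      have d2 : e (dig 2 0) ≠ 0 := (map_ne_zero_iff _ e.injective).2 (by decide)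
      have d3 : e (dig 3 0) ≠ 0 := (map_ne_zero_iff _ e.injective).2 (by decide)
      have key : ∀ α β : F, x + α • v = c • (x + β • v) → α = β := fun α β e0 => by
        have e1 : (1 - c) • x = (c * β - α) • v := by
          rw [sub_smul, sub_smul, one_smul, ← smul_smul, sub_eq_sub_iff_add_eq_add, e0, smul_add, add_comm]
        by_cases hc1 : c = 1
        · subst hc1
          rw [one_mul, sub_self, zero_smul, eq_comm, smul_eq_zero, or_iff_left hv0, sub_eq_zero] at e1
          exact e1.symm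
        · exact absurd (show x = ((1 - c)⁻¹ * (c * β - α)) • v by
            rw [← smul_smul, ← e1, inv_smul_smul₀ (sub_ne_zero.2 (Ne.symm hc1))]) (hind _)
      have kv : ∀ α : F, x + α • v ≠ c • v := fun α e0 => hind (c - α) (by rw [sub_smul, ← e0, add_sub_cancel_right])
      by_cases hi : i = 0 <;> by_cases hj : j = 0
      · rw [hi, hj]
      · exfalso
        obtain ⟨β, hβ⟩ := hcomb j hj
        obtain ⟨c', hc'⟩ := (hz j).eq_smul (hij ▸ hz i) (hn0 j)
        subst hi
        rw [hβ, show w 0 = v by subst hw; rfl] at hc'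
        exact hind (c' - β) (by rw [sub_smul, ← hc', add_sub_cancel_right])
      · exfalso
        obtain ⟨α, hα⟩ := hcomb i hi
        rw [hα, hj, show w 0 = v by subst hw; rfl] at hc
        exact kv α hc
      · obtain ⟨α, hα⟩ := hcomb i hi
        obtain ⟨β, hβ⟩ := hcomb j hj
        rw [hα, hβ] at hc
        have hwij : w i = w j := by rw [hα, hβ, key α β hc]
        subst hw
        fin_cases i <;> fin_cases j <;> first
          | rfl
          | exact absurd rfl hi
          | exact absurd rfl hj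
          | (exfalso
             simp [hv0, d1, d2, d3, eq_comm] at hwij <;> exact absurd hwij (by decide))
    have hspan : ∀ i, ∃ α β : F, w i = α • w 0 + β • w 1 := by
      intro i
      by_cases hi : i = 0
      · exact ⟨1, 0, by simp [hi]⟩
      · obtain ⟨α, hα⟩ := hcomb i hi
        exact ⟨α, 1, by rw [hα]; subst hw; simp [add_comm]⟩
    have h0 : Commute b (z 0) := by
      have : z 0 = g := IsPt.unique P (hz 0) (hv.congr (by subst hw; rfl))
      rw [this]; exact hgb.2.2.symm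
    obtain ⟨j, hj0, hj⟩ := line_axiom hW hP ha hb hab P hz hinj horth hspan (i := 0) h0
    obtain ⟨α, hα⟩ := hcomb j hj0
    exact ⟨α, z j, (hz j).congr hα, (hj j hj0).2 rfl⟩
  -- lifts in the perpendicular of the first member
  have hind : ∀ {x : V F} {y : V F}, uh σ x y ≠ 0 → uh σ v y = 0 → ∀ c : F, x ≠ c • v := fun {x y} hxy hvy c e0 =>
    hxy (by rw [e0, uh_smul_left, hvy, mul_zero])
  subst hr
  obtain ⟨α, z1, hz1, hb1⟩ := lift (r 1) (H.rr 1 1) (H.rr 1 0)
    (hind (y := s 1) (by rw [H.rs]; simp) (by rw [H.rs]; simp))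
  obtain ⟨β, z2, hz2, hb2⟩ := lift (s 1) (H.ss 1 1) (by rw [H.sr h]; simp)
    (hind (y := r 1) (by rw [H.sr h]; simp) (H.rr 0 1))
  obtain ⟨γ, z3, hz3, hb3⟩ := lift (r 1 + r 2) (by simp [uh_add_left, uh_add_right, H.rr])
    (by simp [uh_add_left, H.rr])
    (hind (y := s 1) (by simp [uh_add_left, H.rs]) (by rw [H.rs]; simp))
  obtain ⟨δ, z4, hz4, hb4⟩ := lift (s 2) (H.ss 2 2) (by rw [H.sr h]; simp)
    (hind (y := r 2) (by rw [H.sr h]; simp) (H.rr 0 2))
  obtain ⟨ε, hε⟩ : ∃ ε, ε = γ - α := ⟨_, rfl⟩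
  obtain ⟨u₀, hu₀⟩ : ∃ u₀, u₀ = s 0 + σ β • r 1 + σ δ • r 2 + σ α • s 1 + σ ε • s 2 := ⟨_, rfl⟩
  have hu : uh σ u₀ (r 0) = 1 := by
    simp [hu₀, uh_add_left, uh_smul_left, H.rr, H.sr h]
  obtain ⟨c, hc⟩ := iso_shift hF h (H.rr 0 0) hu
  have H' : Hyp σ ![r 0, r 1 + α • r 0, r 2 + ε • r 0] ![u₀ + c • r 0, s 1 + β • r 0, s 2 + δ • r 0] := by
    have ht : ∀ x : F, x + x = 0 := add_self hF
    have hσσ : ∀ x : F, σ (σ x) = x := fun x => h.invol x
    refine ⟨?_, ?_, ?_⟩
    · intro i j
      fin_cases i <;> fin_cases j <;> simp [uh_add_left, uh_add_right, uh_smul_left, uh_smul_right, H.rr]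
    · intro i j
      fin_cases i <;> fin_cases j
      · simpa using hc
      all_goals simp [hu₀, uh_add_left, uh_add_right, uh_smul_left, uh_smul_right, H.rr, H.ss, H.rs, H.sr h, hσσ, ht]
    · intro i j
      fin_cases i <;> fin_cases j <;>
        simp [hu₀, uh_add_left, uh_add_right, uh_smul_left, uh_smul_right, H.rr, H.ss, H.rs, H.sr h, hσσ, ht]
  refine ⟨_, _, H', ?_⟩
  have q1 : qvec 1 = ![1, 0, 0, 0, 0, 0] := by decide
  have q3 : qvec 4 = ![0, 1, 0, 0, 0, 0] := by decide
  have q4 : qvec 256 = ![0, 0, 0, 0, 1, 0] := by decide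
  have q5 : qvec 20 = ![0, 1, 1, 0, 0, 0] := by decide
  have q6 : qvec 1024 = ![0, 0, 0, 0, 0, 1] := by decide
  intro c' hc'
  simp only [List.mem_cons, List.not_mem_nil, or_false] at hc'
  rcases hc' with rfl | rfl | rfl | rfl | rfl
  · exact ⟨g, hv.congr (by simp [q1, vq, lin]), hgb.2.2.symm⟩
  · exact ⟨z1, hz1.congr (by simp [q3, vq, lin]), hb1⟩
  · exact ⟨z2, hz2.congr (by simp [q4, vq, lin]), hb2⟩
  · refine ⟨z3, hz3.congr ?_, hb3⟩
    simp [q5, vq, lin, hε, sub_smul]
    abel
  · exact ⟨z4, hz4.congr (by simp [q6, vq, lin]), hb4⟩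

theorem goodOff_exists (S : Setting D) (hP : Maps hF h D) (ha : a ∈ D) (hb : b ∈ D) (hab : ¬ Commute a b)
    (P : PMap hF h D a f) (e : QField ≃+* F) : GoodOff D a b := by
  have hW := S.weak
  obtain ⟨r, s, H, hfive⟩ := exists_five S hP ha hb hab P e
  obtain ⟨q, hq, -⟩ := Tree.sound (Q := ∃ q, Good D a b q ∧ True) (fun l hl => on_line S hP ha hb hab P H hl)
    (fun K l hg hK => by obtain ⟨q, hq, -⟩ := good_of_pathOK P hW H hg hK; exact ⟨q, hq, trivial⟩)
    treeOne _ treeOne_ok (sem_mask hfive)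
  obtain ⟨r, s, H, hpt⟩ := path_frame P hW e (fun i => (hq.1 i).1) hq.2
  obtain ⟨t, ht⟩ := exists_code (e := e) P H (c := 64) (by norm_num) (by norm_num) (by decide)
  by_cases hbt : Commute b t
  · refine Tree.sound (fun l hl => on_line (e := e) S hP ha hb hab P H hl)
      (fun K l hg hK => goodOff_of_pathOffOK (e := e) P hW H hg hK) treeTwo _ treeTwo_ok (sem_mask fun c hc => ?_)
    simp only [List.mem_cons, List.not_mem_nil, or_false] at hc
    rcases hc with rfl | rfl | rfl | rfl | rfl | rfl | rfl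
    · exact ⟨_, hpt 0, (hq.1 0).2⟩
    · exact ⟨_, hpt 1, (hq.1 1).2⟩
    · exact ⟨_, hpt 2, (hq.1 2).2⟩
    · exact ⟨_, hpt 3, (hq.1 3).2⟩
    · exact ⟨_, hpt 4, (hq.1 4).2⟩
    · exact ⟨_, hpt 5, (hq.1 5).2⟩
    · exact ⟨t, ht, hbt⟩
  · refine ⟨q, t, hq, ht.mem, hbt, fun i => ?_⟩
    rw [commute_code P hW H ht (hpt i)]
    revert i
    decide

theorem codes_pattern : ((List.range 9).all fun i => (List.range 9).all fun j => Nat.blt i 2 || Nat.blt j 2 ||
    (decide (bform qsig (qvec ([0, 0, 5, 256, 4, 1344, 1, 20, 1024].getD i 0))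
      (qvec ([0, 0, 5, 256, 4, 1344, 1, 20, 1024].getD j 0)) = 0) == !edgeB i j)) = true := by
  decide +kernel

/-- Nine members in the pattern with a translation of order three. -/
theorem exists_pattern (S : Setting D) (hP : Maps hF h D) :
    ∃ y : ℕ → G, Pattern D y ∧ ¬ Commute (y 1) (val y tee) := by
  have hW := S.weak
  have : Finite F := Nat.finite_of_card_ne_zero (by rw [hF]; norm_num)
  obtain ⟨a, ha, -⟩ := S.exists_pair
  obtain ⟨b, hb, hn⟩ := S.cls.exists_noncommute ha
  have hab : ¬ Commute a b := fun e0 => hn e0.symm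
  obtain ⟨f, P⟩ := hP a ha
  obtain ⟨e⟩ := exists_coord hF
  obtain ⟨q, t, hq, ht, hbt, htq⟩ := goodOff_exists S hP ha hb hab P e
  obtain ⟨r, s, H, hpt⟩ := path_frame P hW e (fun i => (hq.1 i).1) hq.2
  obtain ⟨c, hc, htp⟩ := locate P hW H ht
    (req := [(1, false), (1344, true), (4, true), (256, true), (20, true), (1024, true)])
    (L := [64]) (by decide +kernel) (by
    intro x hx
    simp only [List.mem_cons, List.not_mem_nil, or_false] at hx
    rcases hx with rfl | rfl | rfl | rfl | rfl | rfl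
    · exact ⟨_, hpt 0, by simp [htq]⟩
    · exact ⟨_, hpt 1, by simp [htq]⟩
    · exact ⟨_, hpt 2, by simp [htq]⟩
    · exact ⟨_, hpt 3, by simp [htq]⟩
    · exact ⟨_, hpt 4, by simp [htq]⟩
    · exact ⟨_, hpt 5, by simp [htq]⟩)
  simp only [List.mem_singleton] at hc
  subst hc
  obtain ⟨c, hcp⟩ := exists_code (e := e) P H (c := 5) (by norm_num) (by norm_num) (by decide)
  -- the third letter is outside
  have hbc : ¬ Commute b c := by
    intro hbc
    obtain ⟨p, hp, hfit⟩ := on_line (b := b) (e := e) S hP ha hb hab P H (l := [1, 4, 5, 9, 13]) (by decide +kernel)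
    have h1 : On hF h f e r s b 1 := ⟨_, hpt 0, (hq.1 0).2⟩
    have h4 : On hF h f e r s b 4 := ⟨_, hpt 2, (hq.1 2).2⟩
    have h5 : On hF h f e r s b 5 := ⟨_, hcp, hbc⟩
    simp only [pats, List.mem_cons, List.not_mem_nil, or_false] at hp
    rcases hp with rfl | rfl | rfl | rfl | rfl | rfl | rfl | rfl | rfl | rfl | rfl <;>
      simp [Fits, h1, h4, h5] at hfit
  obtain ⟨y, hy⟩ : ∃ y : ℕ → G, y = fun i => [a, b, c, q 3, q 2, q 1, q 0, q 4, q 5].getD i 1 := ⟨_, rfl⟩
  obtain ⟨cd, hcd⟩ : ∃ cd : ℕ → ℕ, cd = fun i => [0, 0, 5, 256, 4, 1344, 1, 20, 1024].getD i 0 := ⟨_, rfl⟩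
  have hyp : ∀ i, 2 ≤ i → i < 9 → IsPt hF h f (y i) (vq e r s (qvec (cd i))) := by
    intro i h2 h9
    subst hy hcd
    interval_cases i
    · exact hcp
    · exact hpt 3
    · exact hpt 2
    · exact hpt 1
    · exact hpt 0
    · exact hpt 4
    · exact hpt 5
  have hbq : ∀ i, 3 ≤ i → i < 9 → Commute b (y i) := by
    intro i h2 h9
    subst hy
    interval_cases i
    · exact (hq.1 3).2
    · exact (hq.1 2).2
    · exact (hq.1 1).2
    · exact (hq.1 0).2
    · exact (hq.1 4).2
    · exact (hq.1 5).2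
  have y0 : y 0 = a := by subst hy; rfl
  have y1 : y 1 = b := by subst hy; rfl
  have y2 : y 2 = c := by subst hy; rfl
  have Y : Pattern D y := by
    have hmain : ∀ i j, 2 ≤ i → i < 9 → 2 ≤ j → j < 9 → (Commute (y i) (y j) ↔ edgeB i j = false) := by
      intro i j hi hi9 hj hj9
      rw [commute_code P hW H (hyp i hi hi9) (hyp j hj hj9), ← decide_eq_true_iff (p := bform qsig _ _ = 0), hcd]
      have h1 := List.all_eq_true.1 (List.all_eq_true.1 codes_pattern i (List.mem_range.2 hi9)) j (List.mem_range.2 hj9)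
      simp only [Bool.or_eq_true, Nat.blt_eq, beq_iff_eq] at h1
      rw [(h1.resolve_left (by omega))]
      simp
    have hall : ∀ i j, i < 9 → j < 9 → (Commute (y i) (y j) ↔ edgeB i j = false) := by
      have h0 : ∀ j, j < 9 → (Commute (y 0) (y j) ↔ edgeB 0 j = false) := by
        intro j hj
        by_cases h2 : 2 ≤ j
        · refine iff_of_true (y0 ▸ (hyp j h2 hj).mem.2.2) ?_
          interval_cases j <;> decide
        · interval_cases j
          · exact iff_of_true (Commute.refl _) (by decide)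
          · exact iff_of_false (by rw [y0, y1]; exact hab) (by decide)
      have h1 : ∀ j, j < 9 → (Commute (y 1) (y j) ↔ edgeB 1 j = false) := by
        intro j hj
        by_cases h3 : 3 ≤ j
        · refine iff_of_true (y1 ▸ hbq j h3 hj) ?_
          interval_cases j <;> decide
        · interval_cases j
          · exact iff_of_false (by rw [y0, y1]; exact fun e0 => hab e0.symm) (by decide)
          · exact iff_of_true (Commute.refl _) (by decide)
          · exact iff_of_false (by rw [y1, y2]; exact hbc) (by decide)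
      have hsym : ∀ i j, edgeB i j = edgeB j i := fun i j => by
        simp only [edgeB, List.any_cons, List.any_nil, Bool.or_false]
        rw [Bool.or_comm (Nat.beq 0 i && Nat.beq 1 j)]
        simp only [Bool.or_comm, Bool.or_left_comm]
      intro i j hi hj
      by_cases hi2 : i < 2
      · interval_cases i
        exacts [h0 j hj, h1 j hj]
      by_cases hj2 : j < 2
      · rw [Commute.symm_iff, hsym]
        interval_cases j
        exacts [h0 i hi, h1 i hi]
      exact hmain i j (by omega) hi (by omega) hj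
    refine ⟨fun i hi => ?_, fun i j hi hj he => (hall i j hi hj).2 he, fun i j hi hj he e0 => ?_⟩
    · by_cases h2 : 2 ≤ i
      · exact (hyp i h2 hi).mem.1
      · interval_cases i
        exacts [y0 ▸ ha, y1 ▸ hb]
    · rw [(hall i j hi hj).1 e0] at he
      exact Bool.noConfusion he
  refine ⟨y, Y, ?_⟩
  have h1 : IsPt hF h f (val y tee) (vq e r s (qvec 64)) := by
    rw [show tee = conjW wTee [8] from rfl, Y.val_conjW hW (by decide +kernel), val_cons, val_nil, mul_one]
    have := isPt_word hW H (w := wTee) (os := trTee) (c := 1024) (cd := cd) (y := y) (by subst hcd; decide +kernel)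
      (fun i hi => hyp i (by revert i; decide) (by revert i; decide))
      (by simpa [hcd] using hyp 8 (by norm_num) (by norm_num))
    simpa [trTee] using this
  rw [y1, IsPt.unique P h1 htp]
  exact hbt

end CfsgLib.KnownB.TypeM22.Unique
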