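import Cfsg.Agent.Lib.KnownB.TypeM22.Coords

/-!
Case distinctions on a set of points of the six-dimensional unitary space which meets every totally
isotropic line in none or in two of its five points.
-/

set_option autoImplicit false

namespace CfsgLib.KnownB.TypeM22.Unique

open CfsgLib.Spor (QField)

mutual
/-- A case distinction on lines, ending at lists of points. -/
inductive Tree
  | leaf (l : List ℕ)
  | branch (l : List ℕ) (kids : Forest)
/-- The branches of a case distinction. -/
inductive Forest
  | nil
  | cons (t : Tree) (ts : Forest)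
end

/-- A case distinction with listed branches. -/
def Tree.node (l : List ℕ) (kids : List Tree) : Tree := .branch l (kids.foldr Forest.cons Forest.nil)

/-- The patterns on a line: none or two of the five points. -/
def pats : List (List Bool) :=
  [[false, false, false, false, false],
   [true, true, false, false, false], [true, false, true, false, false], [true, false, false, true, false],
   [true, false, false, false, true], [false, true, true, false, false], [false, true, false, true, false],
   [false, true, false, false, true], [false, false, true, true, false], [false, false, true, false, true],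
   [false, false, false, true, true]]

/-- A pattern does not contradict what is known. -/
def consistent (K : ℕ × ℕ) (l : List ℕ) (p : List Bool) : Bool :=
  (l.zip p).all fun x => if x.2 then !K.2.testBit x.1 else !K.1.testBit x.1

/-- What is known together with a pattern. -/
def extend (K : ℕ × ℕ) : List ℕ → List Bool → ℕ × ℕ
  | c :: l, true :: p => extend (K.1 ||| 2 ^ c, K.2) l p
  | c :: l, false :: p => extend (K.1, K.2 ||| 2 ^ c) l p
  | _, _ => K

mutual
/-- The check of a tree. -/
def Tree.check (g : ℕ × ℕ → List ℕ → Bool) (v : List ℕ → Bool) : Tree → ℕ × ℕ → Bool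
  | .leaf l, K => g K l
  | .branch l ts, K => v l && checkAll g v ts ((pats.filter (consistent K l)).map (extend K l))
/-- The check of the branches. -/
def checkAll (g : ℕ × ℕ → List ℕ → Bool) (v : List ℕ → Bool) : Forest → List (ℕ × ℕ) → Bool
  | .nil, [] => true
  | .cons t ts, K :: Ks => t.check g v K && checkAll g v ts Ks
  | _, _ => false
end

/-- What is known holds. -/
def Sem (T : ℕ → Prop) (K : ℕ × ℕ) : Prop :=
  (∀ c, K.1.testBit c = true → T c) ∧ ∀ c, K.2.testBit c = true → ¬ T c

/-- The pattern of a list. -/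
def Fits (T : ℕ → Prop) (l : List ℕ) (p : List Bool) : Prop :=
  ∀ x ∈ l.zip p, (T x.1 ↔ x.2 = true)

theorem consistent_of_fits {T : ℕ → Prop} {K : ℕ × ℕ} (hK : Sem T K) {l : List ℕ} {p : List Bool}
    (hp : Fits T l p) : consistent K l p = true := by
  refine List.all_eq_true.2 fun x hx => ?_
  obtain ⟨c, b⟩ := x
  have := hp _ hx
  cases b
  · simp only [Bool.false_eq_true, iff_false] at this
    simpa using fun e => this (hK.1 c e)
  · simp only [iff_true] at this
    simpa using fun e => hK.2 c e this

theorem sem_extend {T : ℕ → Prop} : ∀ {l : List ℕ} {p : List Bool} {K : ℕ × ℕ}, Sem T K → Fits T l p →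
    Sem T (extend K l p)
  | [], _, K, hK, _ => by simpa [extend] using hK
  | c :: l, [], K, hK, _ => by simpa [extend] using hK
  | c :: l, b :: p, K, hK, hp => by
    have hc := hp (c, b) (by simp)
    have hl : Fits T l p := fun x hx => hp x (by simp [hx])
    cases b
    · rw [extend]
      refine sem_extend ⟨hK.1, fun x hx => ?_⟩ hl
      simp only [Nat.testBit_or, Bool.or_eq_true, Nat.testBit_two_pow, decide_eq_true_eq] at hx
      rcases hx with hx | rfl
      · exact hK.2 x hx
      · simpa using hc
    · rw [extend]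
      refine sem_extend ⟨fun x hx => ?_, hK.2⟩ hl
      simp only [Nat.testBit_or, Bool.or_eq_true, Nat.testBit_two_pow, decide_eq_true_eq] at hx
      rcases hx with hx | rfl
      · exact hK.1 x hx
      · simpa using hc

mutual
/-- A checked tree proves the goal. -/
theorem Tree.sound {T : ℕ → Prop} {g : ℕ × ℕ → List ℕ → Bool} {v : List ℕ → Bool} {Q : Prop}
    (hv : ∀ l, v l = true → ∃ p ∈ pats, Fits T l p) (hg : ∀ K l, g K l = true → Sem T K → Q) :
    ∀ (t : Tree) (K : ℕ × ℕ), t.check g v K = true → Sem T K → Q
  | .leaf l, K, h, hK => hg K l (by simpa [Tree.check] using h) hK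
  | .branch l ts, K, h, hK => by
    simp only [Tree.check, Bool.and_eq_true] at h
    obtain ⟨p, hp, hfit⟩ := hv l h.1
    exact all_sound hv hg ts _ h.2 ⟨extend K l p,
      List.mem_map.2 ⟨p, List.mem_filter.2 ⟨hp, consistent_of_fits hK hfit⟩, rfl⟩, sem_extend hK hfit⟩
theorem all_sound {T : ℕ → Prop} {g : ℕ × ℕ → List ℕ → Bool} {v : List ℕ → Bool} {Q : Prop}
    (hv : ∀ l, v l = true → ∃ p ∈ pats, Fits T l p) (hg : ∀ K l, g K l = true → Sem T K → Q) :
    ∀ (ts : Forest) (Ks : List (ℕ × ℕ)), checkAll g v ts Ks = true → (∃ K ∈ Ks, Sem T K) → Q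
  | .nil, [], _, ⟨K, hK, _⟩ => absurd hK (by simp)
  | .nil, _ :: _, h, _ => by simp [checkAll] at h
  | .cons _ _, [], h, _ => by simp [checkAll] at h
  | .cons t ts, K :: Ks, h, ⟨K', hK', hsem⟩ => by
    simp only [checkAll, Bool.and_eq_true] at h
    rcases List.mem_cons.1 hK' with rfl | hK'
    · exact Tree.sound hv hg t _ h.1 hsem
    · exact all_sound hv hg ts Ks h.2 ⟨K', hK', hsem⟩
end

theorem pats_spec : ∀ b₀ b₁ b₂ b₃ b₄ : Bool,
    (∀ i : Fin 5, ![b₀, b₁, b₂, b₃, b₄] i = true → ∃ j : Fin 5, j ≠ i ∧
      ∀ k : Fin 5, k ≠ i → (![b₀, b₁, b₂, b₃, b₄] k = true ↔ k = j)) →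
    [b₀, b₁, b₂, b₃, b₄] ∈ pats := by decide

/-- The five points of a line. -/
def lineOK (l : List ℕ) : Bool :=
  Nat.beq l.length 5 && (List.range 5).all (fun i => Nat.blt (l.getD i 0) 4096 && !Nat.beq (l.getD i 0) 0 &&
    isoN (l.getD i 0) &&
    ([0, 1, 2, 3].any fun m => [0, 1, 2, 3].any fun n => decide (qvec (l.getD i 0) = fun t =>
      dig m 0 * qvec (l.getD 0 0) t + dig n 0 * qvec (l.getD 1 0) t)) &&
    (List.range 5).all fun j => Nat.beq i j ||
      (decide (bform qsig (qvec (l.getD i 0)) (qvec (l.getD j 0)) = 0) &&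
        [1, 2, 3].all fun m => !decide (qvec (l.getD i 0) = fun t => dig m 0 * qvec (l.getD j 0) t)))

/-- A line of five given by a function. -/
theorem fits_of_choice {T : ℕ → Prop} {l : List ℕ} (hl : l.length = 5)
    (h : ∀ i < 5, T (l.getD i 0) → ∃ j < 5, j ≠ i ∧ ∀ k < 5, k ≠ i → (T (l.getD k 0) ↔ k = j)) :
    ∃ p ∈ pats, Fits T l p := by
  classical
  match l, hl with
  | [a, b, c, d, e], _ =>
    refine ⟨[decide (T a), decide (T b), decide (T c), decide (T d), decide (T e)],
      pats_spec _ _ _ _ _ fun i hi => ?_, ?_⟩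
    · have hget : ∀ k : Fin 5, ![decide (T a), decide (T b), decide (T c), decide (T d), decide (T e)] k = true ↔
          T ([a, b, c, d, e].getD k.val 0) := fun k => by fin_cases k <;> simp
      obtain ⟨j, hj, hji, hjk⟩ := h i.val i.2 ((hget i).1 hi)
      exact ⟨⟨j, hj⟩, fun e => hji (congrArg Fin.val e), fun k hk => (hget k).trans
        ((hjk k.val k.2 fun e => hk (Fin.ext e)).trans ⟨fun e => Fin.ext e, fun e => congrArg Fin.val e⟩)⟩
    · intro x hx
      simp only [List.zip_cons_cons, List.zip_nil_left, List.mem_cons, List.not_mem_nil, or_false] at hx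
      rcases hx with rfl | rfl | rfl | rfl | rfl <;> simp

end CfsgLib.KnownB.TypeM22.Unique
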